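import Mathlib

/-!
# Base change of principal parts: the algebra
-/

set_option autoImplicit false
set_option linter.style.haveILetI false
set_option synthInstance.maxHeartbeats 400000

universe u

open TensorProduct Algebra.TensorProduct

noncomputable section

namespace Groth.Agent.PrinBC

set_option maxHeartbeats 1600000 in
/-- `B' ⊗_B (B ⊗_A B / I^(n+1)) = B' ⊗_{A'} B' / I'^(n+1)` for a pushout square of rings. -/
theorem bijective_principalParts {A A' B B' C C' M : Type u} [CommRing A] [CommRing A'] [CommRing B] [CommRing B']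
    [Algebra A A'] [Algebra A B] [Algebra A' B'] [Algebra B B'] [Algebra A B'] [IsScalarTower A A' B']
    [IsScalarTower A B B'] [Algebra.IsPushout A A' B B'] [CommRing C] [CommRing C'] [AddCommGroup M] [Module B M]
    (n : ℕ) (θ : B ⊗[A] B →+* C) (hθs : Function.Surjective θ)
    (hθk : RingHom.ker θ = KaehlerDifferential.ideal A B ^ (n + 1))
    (θ' : B' ⊗[A'] B' →+* C') (hθs' : Function.Surjective θ')
    (hθk' : RingHom.ker θ' = KaehlerDifferential.ideal A' B' ^ (n + 1))
    (E : M ≃+ C) (hE : ∀ (a : B) (m : M), E (a • m) = θ (a ⊗ₜ 1) * E m)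
    (κ : B' ⊗[B] M →+ C')
    (hκ : ∀ (b' : B') (a b : B) (m : M), E m = θ (a ⊗ₜ b) →
      κ (b' ⊗ₜ m) = θ' ((b' * algebraMap B B' a) ⊗ₜ algebraMap B B' b)) :
    Function.Bijective κ := by
  letI : Algebra B C := (θ.comp includeLeftRingHom).toAlgebra
  haveI : IsScalarTower A B B' := inferInstance
  have hsmul : ∀ (a : B) (c : C), a • c = θ (a ⊗ₜ 1) * c := fun a c => rfl
  let EL : M ≃ₗ[B] C := { E with map_smul' := fun a m => hE a m }
  have hEL : ∀ m, EL m = E m := fun m => rfl
  haveI : IsScalarTower A' B' (B' ⊗[B] C) := inferInstance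
  haveI : IsScalarTower A B' (B' ⊗[B] C) := inferInstance
  haveI : IsScalarTower A A' (B' ⊗[B] C) := .of_algebraMap_eq fun r => by
    rw [IsScalarTower.algebraMap_apply A B' (B' ⊗[B] C), IsScalarTower.algebraMap_apply A' B' (B' ⊗[B] C),
      ← IsScalarTower.algebraMap_apply A A' B']
  have hleft : ∀ a : B, algebraMap B B' a ⊗ₜ[B] (1 : C) = (1 : B') ⊗ₜ[B] θ (a ⊗ₜ 1) := fun a => by
    rw [Algebra.algebraMap_eq_smul_one a, TensorProduct.smul_tmul, hsmul, mul_one]
  let g : B →ₐ[A] B' ⊗[B] C :=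
    { toFun := fun b => (1 : B') ⊗ₜ[B] θ (1 ⊗ₜ b)
      map_one' := by rw [← Algebra.TensorProduct.one_def, map_one]; rfl
      map_mul' := fun x y => by rw [Algebra.TensorProduct.tmul_mul_tmul, one_mul, ← map_mul,
        Algebra.TensorProduct.tmul_mul_tmul, one_mul]
      map_zero' := by rw [TensorProduct.tmul_zero, map_zero, TensorProduct.tmul_zero]
      map_add' := fun x y => by rw [TensorProduct.tmul_add, map_add, TensorProduct.tmul_add]
      commutes' := fun r => by
        show (1 : B') ⊗ₜ[B] θ (1 ⊗ₜ algebraMap A B r) = algebraMap A B' r ⊗ₜ[B] (1 : C)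
        rw [IsScalarTower.algebraMap_apply A B B', hleft]
        congr 2
        rw [Algebra.algebraMap_eq_smul_one, TensorProduct.tmul_smul, TensorProduct.smul_tmul'] }
  let eq' := Algebra.IsPushout.equiv A A' B B'
  let h : B' →ₐ[A'] B' ⊗[B] C :=
    (Algebra.TensorProduct.lift (Algebra.ofId A' _) g fun _ _ => Commute.all _ _).comp eq'.symm.toAlgHom
  have heq : ∀ b : B, eq' ((1 : A') ⊗ₜ b) = algebraMap B B' b := fun b => by
    rw [Algebra.IsPushout.equiv_tmul]; simp
  have hh : ∀ b : B, h (algebraMap B B' b) = g b := fun b => by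
    show Algebra.TensorProduct.lift (Algebra.ofId A' _) g (fun _ _ => Commute.all _ _) (eq'.symm (algebraMap B B' b)) = _
    rw [← heq, AlgEquiv.symm_apply_apply]
    simp only [Algebra.TensorProduct.lift_tmul, map_one, _root_.one_mul]
  have hgen : ∀ (P : B' → Prop), P 0 → (∀ x y, P x → P y → P (x + y)) →
      (∀ (a' : A') (b : B), P (algebraMap A' B' a' * algebraMap B B' b)) → ∀ x, P x := by
    intro P h0 hadd hmul x
    obtain ⟨t, rfl⟩ := eq'.surjective x
    induction t using TensorProduct.induction_on with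
    | zero => rw [map_zero]; exact h0
    | add s t hs ht => rw [map_add]; exact hadd _ _ hs ht
    | tmul a' b =>
      rw [show a' ⊗ₜ[A] b = a' • ((1 : A') ⊗ₜ[A] b) by rw [TensorProduct.smul_tmul', smul_eq_mul, mul_one],
        map_smul, heq, Algebra.smul_def]
      exact hmul a' b
  let Ψ : B' ⊗[A'] B' →ₐ[A'] B' ⊗[B] C :=
    Algebra.TensorProduct.lift (IsScalarTower.toAlgHom A' B' (B' ⊗[B] C)) h fun _ _ => Commute.all _ _
  have hΨ : ∀ x y, Ψ (x ⊗ₜ y) = (x ⊗ₜ[B] (1 : C)) * h y := fun x y => by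
    rw [show Ψ (x ⊗ₜ y) = _ from Algebra.TensorProduct.lift_tmul _ _ _ _ _]
    rfl
  -- the kernel is killed
  let R : C →+* B' ⊗[B] C := (includeRight : C →ₐ[B] B' ⊗[B] C).toRingHom
  let J : Ideal (B' ⊗[B] C) := ((KaehlerDifferential.ideal A B).map θ).map R
  have hJ : J ^ (n + 1) = ⊥ := by
    rw [← Ideal.map_pow, ← Ideal.map_pow, ← hθk, (Ideal.map_eq_bot_iff_le_ker θ).mpr le_rfl, Ideal.map_bot]
  have hI : KaehlerDifferential.ideal A' B' ≤ J.comap Ψ.toRingHom := by
    rw [← KaehlerDifferential.span_range_eq_ideal, Ideal.span_le]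
    rintro _ ⟨x, rfl⟩
    show Ψ (1 ⊗ₜ x - x ⊗ₜ 1) ∈ J
    refine hgen (fun x => Ψ (1 ⊗ₜ x - x ⊗ₜ 1) ∈ J) ?_ ?_ ?_ x
    · simp
    · intro x y hx hy
      rw [TensorProduct.tmul_add, TensorProduct.add_tmul, add_sub_add_comm, map_add]
      exact J.add_mem hx hy
    · intro a' b
      rw [← Algebra.smul_def, TensorProduct.tmul_smul, ← TensorProduct.smul_tmul', ← smul_sub, map_smul,
        Algebra.smul_def]
      refine J.mul_mem_left _ ?_
      rw [map_sub, hΨ, hΨ, map_one, mul_one, hh, ← Algebra.TensorProduct.one_def, one_mul, hleft]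
      show (1 : B') ⊗ₜ[B] θ (1 ⊗ₜ b) - _ ∈ J
      rw [← TensorProduct.tmul_sub, ← map_sub]
      exact Ideal.mem_map_of_mem R (Ideal.mem_map_of_mem θ
        (KaehlerDifferential.one_smul_sub_smul_one_mem_ideal A b))
  have hker : RingHom.ker θ' ≤ RingHom.ker Ψ.toRingHom := by
    rw [hθk']
    refine (Ideal.pow_right_mono hI (n + 1)).trans ((Ideal.le_comap_pow _ _).trans ?_)
    rw [hJ]
    exact le_rfl
  let Ψb := (RingHom.liftOfSurjective θ' hθs') ⟨Ψ.toRingHom, hker⟩
  have hΨb : ∀ z, Ψb (θ' z) = Ψ z := fun z => RingHom.liftOfRightInverse_comp_apply _ _ _ _ z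
  refine ⟨?_, fun c' => ?_⟩
  · have key : ∀ z, Ψb (κ z) = LinearMap.lTensor B' EL.toLinearMap z := by
      intro z
      induction z using TensorProduct.induction_on with
      | zero => simp
      | add x y hx hy => simp only [map_add, hx, hy]
      | tmul b' m =>
        obtain ⟨t, ht⟩ := hθs (E m)
        obtain rfl : E.symm (θ t) = m := by rw [ht, AddEquiv.symm_apply_apply]
        clear ht
        induction t using TensorProduct.induction_on with
        | zero => simp
        | add x y hx hy => simp only [map_add, TensorProduct.tmul_add, hx, hy]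
        | tmul a b =>
          rw [hκ b' a b _ (E.apply_symm_apply _), hΨb, hΨ, hh, LinearMap.lTensor_tmul]
          show ((b' * algebraMap B B' a) ⊗ₜ[B] (1 : C)) * ((1 : B') ⊗ₜ[B] θ (1 ⊗ₜ b)) = b' ⊗ₜ[B] E (E.symm _)
          rw [E.apply_symm_apply, Algebra.TensorProduct.tmul_mul_tmul, mul_one, one_mul, mul_comm b',
            ← Algebra.smul_def, TensorProduct.smul_tmul, hsmul, ← map_mul, Algebra.TensorProduct.tmul_mul_tmul,
            mul_one, one_mul]
    intro z z' hz
    have : LinearMap.lTensor B' EL.toLinearMap z = LinearMap.lTensor B' EL.toLinearMap z' := by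
      rw [← key, ← key, hz]
    exact (LinearEquiv.lTensor B' EL).injective this
  · obtain ⟨t, rfl⟩ := hθs' c'
    induction t using TensorProduct.induction_on with
    | zero => exact ⟨0, by simp⟩
    | add x y hx hy =>
      obtain ⟨a, ha⟩ := hx
      obtain ⟨b, hb⟩ := hy
      exact ⟨a + b, by rw [map_add, map_add, ha, hb]⟩
    | tmul x y =>
      refine hgen (fun y => ∃ z, κ z = θ' (x ⊗ₜ y)) ⟨0, by simp⟩ ?_ ?_ y
      · rintro a b ⟨za, ha⟩ ⟨zb, hb⟩
        exact ⟨za + zb, by rw [map_add, TensorProduct.tmul_add, map_add, ha, hb]⟩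
      · intro a' b
        refine ⟨(x * algebraMap A' B' a') ⊗ₜ E.symm (θ (1 ⊗ₜ b)), ?_⟩
        rw [hκ _ 1 b _ (E.apply_symm_apply _), map_one, mul_one, ← Algebra.smul_def a',
          ← TensorProduct.smul_tmul, Algebra.smul_def, mul_comm]

end Groth.Agent.PrinBC
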