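import Groth.Agent.PrinBC.GrMap
import Groth.Agent.Conormal.Maps
import Groth.Agent.LocFree.Props

/-!
# Base change of graded pieces: surjectivity, the flat case and sections
-/

set_option autoImplicit false
set_option backward.isDefEq.respectTransparency false
set_option backward.isDefEq.respectTransparency.types false
set_option linter.style.haveILetI false
set_option synthInstance.maxHeartbeats 400000

universe u

open CategoryTheory CategoryTheory.Limits AlgebraicGeometry TopologicalSpace Opposite TensorProduct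

noncomputable section

namespace Groth.Agent.PrinBC

open Groth.Agent.QC Groth.Agent.ModDesc

variable {Y X Y' X' : Scheme.{u}} {f : Y ⟶ X} [IsClosedImmersion f] {v : X' ⟶ X} {u : Y' ⟶ Y} {f' : Y' ⟶ X'}

theorem ker_of_isPullback (hsq : IsPullback u f' f v) : f.ker.comap v = f'.ker := by
  rw [← Scheme.IdealSheafData.ker_fst_of_isClosedImmersion, ← hsq.flip.isoPullback_hom_fst,
    Scheme.Hom.ker_comp_of_isIso]

variable {n : ℕ} {φ : (Scheme.Modules.pullback u).obj (PrinPart.grMod f n) ⟶ PrinPart.grMod f' n}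

/-- The base change map of graded pieces is an epimorphism. -/
theorem epi_grMap (hsq : IsPullback u f' f v) (hφ : PrinPart.IsGrMap f' f v u n φ) : Epi φ := by
  haveI : IsClosedImmersion f' := MorphismProperty.of_isPullback hsq inferInstance
  refine Conormal.epi_of_basis φ (B := {W | ∃ (U : X.Opens) (U' : X'.Opens), IsAffineOpen U ∧ IsAffineOpen U' ∧
      U' ≤ v ⁻¹ᵁ U ∧ f' ⁻¹ᵁ U' = W}) ?_ ?_
  · intro O z hz
    obtain ⟨O', hO', e⟩ := f'.isClosedEmbedding.isInducing.isOpen_iff.mp O.2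
    obtain ⟨U, hU, hzU, -⟩ := exists_isAffineOpen_mem_and_subset (X := X) (x := v (f' z)) (U := ⊤) trivial
    obtain ⟨U', hU', hzU', hle⟩ := exists_isAffineOpen_mem_and_subset (X := X') (x := f' z)
      (U := v ⁻¹ᵁ U ⊓ ⟨O', hO'⟩) ⟨hzU, show z ∈ f' ⁻¹' O' by rw [e]; exact hz⟩
    exact ⟨_, ⟨U, U', hU, hU', fun x hx => (hle hx).1, rfl⟩, fun x hx => by
      have : x ∈ f' ⁻¹' O' := (hle hx).2
      rwa [e] at this, hzU'⟩
  · rintro _ ⟨U, U', hU, hU', e, rfl⟩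
    have ew : f' ⁻¹ᵁ U' ≤ u ⁻¹ᵁ (f ⁻¹ᵁ U) := fun x hx => by
      show (u ≫ f) x ∈ U
      rw [hsq.w]
      exact e hx
    obtain ⟨-, -, h, -⟩ := grMap_app (ker_of_isPullback hsq) hφ hU hU' e ew
    exact h

/-- The base change map of graded pieces is an isomorphism for flat base change. -/
theorem isIso_grMap_of_flat [Flat v] (hsq : IsPullback u f' f v) (hφ : PrinPart.IsGrMap f' f v u n φ) :
    IsIso φ := by
  haveI : IsClosedImmersion f' := MorphismProperty.of_isPullback hsq inferInstance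
  have hex : ∀ z : Y', ∃ (U : X.Opens) (U' : X'.Opens), IsAffineOpen U ∧ IsAffineOpen U' ∧
      U' ≤ v ⁻¹ᵁ U ∧ z ∈ f' ⁻¹ᵁ U' := fun z => by
    obtain ⟨U, hU, hzU, -⟩ := exists_isAffineOpen_mem_and_subset (X := X) (x := v (f' z)) (U := ⊤) trivial
    obtain ⟨U', hU', hzU', hle⟩ := exists_isAffineOpen_mem_and_subset (X := X') (x := f' z) (U := v ⁻¹ᵁ U) hzU
    exact ⟨U, U', hU, hU', hle, hzU'⟩
  choose U U' hU hU' e hmem using hex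
  haveI : IsAffineHom f' := inferInstance
  refine isIso_of_affine_cover (isQCoh_pullback _ (isQCoh_pullback _ (QC.isQCoh_idealMod _)))
    (isQCoh_pullback _ (QC.isQCoh_idealMod _)) φ (fun z => f' ⁻¹ᵁ U' z) (fun z => (hU' z).preimage f')
    (fun z => ⟨z, hmem z⟩) fun z => ?_
  have ew : f' ⁻¹ᵁ U' z ≤ u ⁻¹ᵁ (f ⁻¹ᵁ U z) := fun x hx => by
    show (u ≫ f) x ∈ U z
    rw [hsq.w]
    exact e z hx
  obtain ⟨ht1, ht2, hs, hi⟩ := grMap_app (ker_of_isPullback hsq) hφ (hU z) (hU' z) (e z) ew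
  refine ⟨hi ?_, hs⟩
  letI : Algebra Γ(X, U z) Γ(X', U' z) := (v.appLE (U z) (U' z) (e z)).hom.toAlgebra
  letI : Algebra Γ(X, U z) Γ(Y, f ⁻¹ᵁ U z) := (f.appLE (U z) (f ⁻¹ᵁ U z) le_rfl).hom.toAlgebra
  letI : Algebra Γ(X', U' z) Γ(Y', f' ⁻¹ᵁ U' z) := (f'.appLE (U' z) (f' ⁻¹ᵁ U' z) le_rfl).hom.toAlgebra
  letI : Algebra Γ(Y, f ⁻¹ᵁ U z) Γ(Y', f' ⁻¹ᵁ U' z) := (u.appLE (f ⁻¹ᵁ U z) (f' ⁻¹ᵁ U' z) ew).hom.toAlgebra
  letI : Algebra Γ(X, U z) Γ(Y', f' ⁻¹ᵁ U' z) :=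
    ((f'.appLE (U' z) (f' ⁻¹ᵁ U' z) le_rfl).hom.comp (v.appLE (U z) (U' z) (e z)).hom).toAlgebra
  haveI := ht1
  haveI := ht2
  haveI : Module.Flat Γ(X, U z) Γ(X', U' z) :=
    RingHom.flat_algebraMap_iff.1 (v.flat_appLE (hU z) (hU' z) (e z))
  intro w hw
  exact baseChange_ker_of_flat _ (sectLin_injective _ _) w hw

theorem bijective_id_appLE {Z : Scheme.{u}} {V W : Z.Opens} (h : W = V) :
    Function.Bijective ((𝟙 Z : Z ⟶ Z).appLE V W (by rw [h]; exact le_rfl)) := by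
  subst h
  have e : (𝟙 Z : Z ⟶ Z).appLE W W (le_refl W) = 𝟙 _ := by
    rw [Scheme.Hom.appLE, Scheme.Hom.id_app, Category.id_comp]
    exact Z.presheaf.map_id _
  rw [e]
  exact Function.bijective_id

variable {g : X ⟶ Y} {g' : X' ⟶ Y'}

theorem isPullback_section (hf : f ≫ g = 𝟙 Y) (hsq : IsPullback v g' g u) (hf' : f' ≫ g' = 𝟙 Y')
    (hf'v : f' ≫ v = u ≫ f) : IsPullback u f' f v := by
  refine IsPullback.of_bot ?_ hf'v.symm hsq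
  rw [hf, hf']
  exact IsPullback.of_vert_isIso ⟨by simp⟩

/-- The base change map of graded pieces of a section is an isomorphism when lower pieces are flat. -/
theorem isIso_grMap_section (hf : f ≫ g = 𝟙 Y) (hsq₀ : IsPullback v g' g u) (hf' : f' ≫ g' = 𝟙 Y')
    (hf'v : f' ≫ v = u ≫ f)
    (hflat : ∀ (U : X.Opens) (_ : IsAffineOpen U), ∀ k, k < n →
      letI := (f.appLE U (f ⁻¹ᵁ U) le_rfl).hom.toAlgebra
      Module.Flat Γ(Y, f ⁻¹ᵁ U) (Γ(Y, f ⁻¹ᵁ U) ⊗[Γ(X, U)]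
        ↥(RingHom.ker (algebraMap Γ(X, U) Γ(Y, f ⁻¹ᵁ U)) ^ k)))
    (hφ : PrinPart.IsGrMap f' f v u n φ) : IsIso φ := by
  have hsq := isPullback_section hf hsq₀ hf' hf'v
  haveI : IsClosedImmersion f' := MorphismProperty.of_isPullback hsq inferInstance
  haveI : IsAffineHom f' := inferInstance
  have hex : ∀ z : Y', ∃ (V : Y.Opens) (U : X.Opens) (V' : Y'.Opens), IsAffineOpen V ∧ IsAffineOpen U ∧
      IsAffineOpen V' ∧ U ≤ g ⁻¹ᵁ V ∧ V' ≤ u ⁻¹ᵁ V ∧ f ⁻¹ᵁ U = V ∧ z ∈ V' := by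
    intro z
    obtain ⟨V, hV, hzV, -⟩ := exists_isAffineOpen_mem_and_subset (X := Y) (x := u z) (U := ⊤) trivial
    have hfV : f ⁻¹ᵁ (g ⁻¹ᵁ V) = V := by rw [← Scheme.Hom.comp_preimage, hf]; rfl
    obtain ⟨U₀, hU₀, hzU₀, hle⟩ := exists_isAffineOpen_mem_and_subset (X := X) (x := f (u z)) (U := g ⁻¹ᵁ V)
      (show u z ∈ f ⁻¹ᵁ (g ⁻¹ᵁ V) by rw [hfV]; exact hzV)
    obtain ⟨a, ha, hza⟩ := hV.exists_basicOpen_le (V := f ⁻¹ᵁ U₀) ⟨u z, hzU₀⟩ hzV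
    obtain ⟨V', hV', hzV', hle'⟩ := exists_isAffineOpen_mem_and_subset (X := Y') (x := z) (U := u ⁻¹ᵁ Y.basicOpen a) hza
    refine ⟨Y.basicOpen a, U₀ ⊓ g ⁻¹ᵁ Y.basicOpen a, V', hV.basicOpen a, ?_, hV', inf_le_right, hle', ?_, hzV'⟩
    · rw [Scheme.preimage_basicOpen,
        show U₀ ⊓ X.basicOpen (g.app V a) = X.basicOpen (X.presheaf.map (homOfLE hle).op (g.app V a)) from
          (Scheme.basicOpen_res X (g.app V a) (homOfLE hle).op).symm]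
      exact hU₀.basicOpen _
    · have : f ⁻¹ᵁ (g ⁻¹ᵁ Y.basicOpen a) = Y.basicOpen a := by rw [← Scheme.Hom.comp_preimage, hf]; rfl
      rw [Scheme.Hom.preimage_inf, this]
      exact inf_eq_right.2 ha
  choose V U V' hV hU hV' eU eV hfU hmem using hex
  have hfV' : ∀ z, f' ⁻¹ᵁ (v ⁻¹ᵁ U z ⊓ g' ⁻¹ᵁ V' z) = V' z := fun z => by
    rw [Scheme.Hom.preimage_inf, ← Scheme.Hom.comp_preimage, hf'v, ← Scheme.Hom.comp_preimage f' g', hf']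
    refine inf_eq_right.2 fun x hx => ?_
    show u x ∈ f ⁻¹ᵁ U z
    rw [hfU z]
    exact eV z hx
  have haff : ∀ z, IsAffineOpen (v ⁻¹ᵁ U z ⊓ g' ⁻¹ᵁ V' z) := fun z => by
    haveI : IsAffine (V z).toScheme := hV z
    haveI : IsAffine (U z).toScheme := hU z
    haveI : IsAffine (V' z).toScheme := hV' z
    exact .of_isIso (Scheme.Hom.isPullback_resLE hsq₀ (eV z) (eU z) rfl).isoPullback.hom
  refine isIso_of_affine_cover (isQCoh_pullback _ (isQCoh_pullback _ (QC.isQCoh_idealMod _)))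
    (isQCoh_pullback _ (QC.isQCoh_idealMod _)) φ (fun z => f' ⁻¹ᵁ (v ⁻¹ᵁ U z ⊓ g' ⁻¹ᵁ V' z))
    (fun z => (haff z).preimage f')
    (fun z => ⟨z, show z ∈ f' ⁻¹ᵁ _ by rw [hfV' z]; exact hmem z⟩) fun z => ?_
  have e : v ⁻¹ᵁ U z ⊓ g' ⁻¹ᵁ V' z ≤ v ⁻¹ᵁ U z := inf_le_left
  have ef : v ⁻¹ᵁ U z ⊓ g' ⁻¹ᵁ V' z ≤ g' ⁻¹ᵁ V' z := inf_le_right
  have ew : f' ⁻¹ᵁ (v ⁻¹ᵁ U z ⊓ g' ⁻¹ᵁ V' z) ≤ u ⁻¹ᵁ (f ⁻¹ᵁ U z) := fun x hx => by
    show (u ≫ f) x ∈ U z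
    rw [hsq.w]
    exact hx.1
  obtain ⟨ht1, ht2, hs, hi⟩ := grMap_app (ker_of_isPullback hsq) hφ (hU z) (haff z) e ew
  refine ⟨hi ?_, hs⟩
  have hsection := isIso_pushoutSection_of_isAffineOpen hsq₀ (eV z) (eU z) rfl (hV z) (hV' z) (hU z)
  have hpo := (isIso_pushoutSection_iff hsq₀ (eV z) (eU z) rfl).mp hsection
  have w : ∀ r, v.appLE (U z) _ e (g.appLE (V z) (U z) (eU z) r) =
      g'.appLE (V' z) _ ef (u.appLE (V z) (V' z) (eV z) r) := fun r =>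
    ConcreteCategory.congr_hom hpo.w r
  set U' := v ⁻¹ᵁ U z ⊓ g' ⁻¹ᵁ V' z
  letI : Algebra Γ(X, U z) Γ(X', U') := (v.appLE (U z) U' e).hom.toAlgebra
  letI : Algebra Γ(X, U z) Γ(Y, f ⁻¹ᵁ U z) := (f.appLE (U z) (f ⁻¹ᵁ U z) le_rfl).hom.toAlgebra
  letI : Algebra Γ(Y, V z) Γ(X, U z) := (g.appLE (V z) (U z) (eU z)).hom.toAlgebra
  letI : Algebra Γ(Y', V' z) Γ(X', U') := (g'.appLE (V' z) U' ef).hom.toAlgebra
  letI : Algebra Γ(Y, V z) Γ(Y', V' z) := (u.appLE (V z) (V' z) (eV z)).hom.toAlgebra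
  letI : Algebra Γ(Y, V z) Γ(X', U') :=
    ((g'.appLE (V' z) U' ef).hom.comp (u.appLE (V z) (V' z) (eV z)).hom).toAlgebra
  haveI : IsScalarTower Γ(Y, V z) Γ(Y', V' z) Γ(X', U') := IsScalarTower.of_algebraMap_eq' rfl
  haveI : IsScalarTower Γ(Y, V z) Γ(X, U z) Γ(X', U') := IsScalarTower.of_algebraMap_eq fun r => (w r).symm
  haveI : Algebra.IsPushout Γ(Y, V z) Γ(Y', V' z) Γ(X, U z) Γ(X', U') :=
    CommRingCat.isPushout_iff_isPushout.mp hpo.flip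
  letI : Algebra Γ(Y, V z) Γ(Y, f ⁻¹ᵁ U z) :=
    ((f.appLE (U z) (f ⁻¹ᵁ U z) le_rfl).hom.comp (g.appLE (V z) (U z) (eU z)).hom).toAlgebra
  haveI : IsScalarTower Γ(Y, V z) Γ(X, U z) Γ(Y, f ⁻¹ᵁ U z) := IsScalarTower.of_algebraMap_eq' rfl
  have hπ : Function.Surjective (algebraMap Γ(X, U z) Γ(Y, f ⁻¹ᵁ U z)) := by
    have := f.app_surjective (U z) (hU z)
    rwa [Scheme.Hom.app_eq_appLE] at this
  have hAB : Function.Bijective (algebraMap Γ(Y, V z) Γ(Y, f ⁻¹ᵁ U z)) := by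
    have h : g.appLE (V z) (U z) (eU z) ≫ f.appLE (U z) (f ⁻¹ᵁ U z) le_rfl =
        (𝟙 Y : Y ⟶ Y).appLE (V z) (f ⁻¹ᵁ U z) (by rw [hfU z]; exact le_rfl) := by
      rw [Scheme.Hom.appLE_comp_appLE]
      exact FpqcDescent.appLE_congr hf _ _ _ _
    show Function.Bijective (g.appLE (V z) (U z) (eU z) ≫ f.appLE (U z) (f ⁻¹ᵁ U z) le_rfl)
    rw [h]
    exact bijective_id_appLE (hfU z)
  haveI : Module.Flat Γ(Y, V z) (Γ(X, U z) ⧸ RingHom.ker (algebraMap Γ(X, U z) Γ(Y, f ⁻¹ᵁ U z)) ^ n) :=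
    flat_quot_pow hπ hAB n (hflat (U z) (hU z))
  have hk : RingHom.ker (algebraMap Γ(X, U z) Γ(Y, f ⁻¹ᵁ U z)) = f.ker.ideal ⟨U z, hU z⟩ := by
    rw [Scheme.Hom.ker_apply, Scheme.Hom.app_eq_appLE]; rfl
  letI : Algebra Γ(X', U') Γ(Y', f' ⁻¹ᵁ U') := (f'.appLE U' (f' ⁻¹ᵁ U') le_rfl).hom.toAlgebra
  letI : Algebra Γ(Y, f ⁻¹ᵁ U z) Γ(Y', f' ⁻¹ᵁ U') := (u.appLE (f ⁻¹ᵁ U z) (f' ⁻¹ᵁ U') ew).hom.toAlgebra
  letI : Algebra Γ(X, U z) Γ(Y', f' ⁻¹ᵁ U') :=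
    ((f'.appLE U' (f' ⁻¹ᵁ U') le_rfl).hom.comp (v.appLE (U z) U' e).hom).toAlgebra
  haveI := ht1
  haveI := ht2
  intro x hx
  exact baseChange_ker_of_section (A := Γ(Y, V z)) (A' := Γ(Y', V' z)) n hπ _ (sectLin_injective _ _)
    (by rw [hk]; exact range_sectLin f.ker n ⟨U z, hU z⟩) x hx

/-- Flat graded pieces give flat affine pieces. -/
theorem flat_of_isFlat_grMod {k : ℕ} (h : FlatMod.IsFlat (PrinPart.grMod f k)) (U : X.Opens) (hU : IsAffineOpen U) :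
    letI := (f.appLE U (f ⁻¹ᵁ U) le_rfl).hom.toAlgebra
    Module.Flat Γ(Y, f ⁻¹ᵁ U) (Γ(Y, f ⁻¹ᵁ U) ⊗[Γ(X, U)]
      ↥(RingHom.ker (algebraMap Γ(X, U) Γ(Y, f ⁻¹ᵁ U)) ^ k)) := by
  haveI : IsAffineHom f := inferInstance
  haveI hqM : Coh.IsQCoh (ClSub.idealMod (f.ker ^ k)) := QC.isQCoh_idealMod _
  have hq : Coh.IsQCoh (PrinPart.grMod f k) := isQCoh_pullback _ hqM
  haveI : Module.Flat Γ(Y, f ⁻¹ᵁ U) Γ((Scheme.Modules.pullback f).obj (ClSub.idealMod (f.ker ^ k)), f ⁻¹ᵁ U) :=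
    LocFree.flat_sections (hU := hU.preimage f) hq h
  obtain ⟨Φ, -⟩ := exists_bijective_liftBaseChange f (ClSub.idealMod (f.ker ^ k)) (hH := hqM) hU (hU.preimage f) le_rfl
  letI := (f.appLE U (f ⁻¹ᵁ U) le_rfl).hom.toAlgebra
  have hk : RingHom.ker (algebraMap Γ(X, U) Γ(Y, f ⁻¹ᵁ U)) = f.ker.ideal ⟨U, hU⟩ := by
    rw [Scheme.Hom.ker_apply, Scheme.Hom.app_eq_appLE]; rfl
  have hr : LinearMap.range (sectLin (f.ker ^ k) U) = RingHom.ker (algebraMap Γ(X, U) Γ(Y, f ⁻¹ᵁ U)) ^ k := by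
    rw [hk]; exact range_sectLin f.ker k ⟨U, hU⟩
  let e := (LinearEquiv.ofInjective (sectLin (f.ker ^ k) U) (sectLin_injective _ _)).trans (LinearEquiv.ofEq _ _ hr)
  exact Module.Flat.of_linearEquiv ((LinearEquiv.baseChange Γ(X, U) Γ(Y, f ⁻¹ᵁ U) _ _ e).symm.trans Φ)

/-- The piece of degree zero is flat. -/
theorem flat_pow_zero {R B : Type u} [CommRing R] [CommRing B] [Algebra R B] (I : Ideal R) :
    Module.Flat B (B ⊗[R] ↥(I ^ 0)) := by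
  let e : ↥(I ^ 0) ≃ₗ[R] R := (LinearEquiv.ofEq _ _ (by rw [pow_zero, Ideal.one_eq_top])).trans Submodule.topEquiv
  exact Module.Flat.of_linearEquiv ((LinearEquiv.baseChange R B _ _ e).trans
    (Algebra.TensorProduct.rid R B B).toLinearEquiv)

end Groth.Agent.PrinBC
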