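import Mathlib
import Groth.Agent.FlatSES.Basic

/-!
# Base change of the graded pieces of an ideal: the algebra
-/

set_option autoImplicit false
set_option linter.style.haveILetI false
set_option synthInstance.maxHeartbeats 400000

universe u

open TensorProduct
open Groth.Agent

noncomputable section

namespace Groth.Agent.PrinBC

variable {R R' B B' M M' : Type u} [CommRing R] [CommRing R'] [CommRing B] [CommRing B']
  [Algebra R R'] [Algebra R B] [Algebra R' B'] [Algebra B B'] [Algebra R B']
  [IsScalarTower R R' B'] [IsScalarTower R B B']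
  [AddCommGroup M] [Module R M] [AddCommGroup M'] [Module R' M']

/-- The surjection `R' ⊗_R M → B' ⊗_B (B ⊗_R M)`. -/
def toGr (R R' B B' M : Type u) [CommRing R] [CommRing R'] [CommRing B] [CommRing B']
    [Algebra R R'] [Algebra R B] [Algebra R' B'] [Algebra B B'] [Algebra R B']
    [IsScalarTower R R' B'] [IsScalarTower R B B'] [AddCommGroup M] [Module R M] :
    R' ⊗[R] M →+ B' ⊗[B] (B ⊗[R] M) :=
  TensorProduct.liftAddHom
    (AddMonoidHom.mk' (fun r : R' => AddMonoidHom.mk' (fun s : M => algebraMap R' B' r ⊗ₜ[B] ((1 : B) ⊗ₜ[R] s))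
        fun s t => by rw [TensorProduct.tmul_add, TensorProduct.tmul_add])
      fun r r' => by ext s; simp [TensorProduct.add_tmul])
    fun a r s => by
      show algebraMap R' B' (a • r) ⊗ₜ[B] ((1 : B) ⊗ₜ[R] s) = algebraMap R' B' r ⊗ₜ[B] ((1 : B) ⊗ₜ[R] (a • s))
      rw [Algebra.smul_def, map_mul, ← IsScalarTower.algebraMap_apply R R' B', IsScalarTower.algebraMap_apply R B B',
        ← Algebra.smul_def, TensorProduct.smul_tmul, TensorProduct.smul_tmul', TensorProduct.tmul_smul,
        TensorProduct.smul_tmul', Algebra.smul_def a (1 : B), smul_eq_mul]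

@[simp]
theorem toGr_tmul (r : R') (s : M) :
    toGr R R' B B' M (r ⊗ₜ s) = algebraMap R' B' r ⊗ₜ[B] ((1 : B) ⊗ₜ[R] s) := rfl

theorem toGr_smul (r : R') (w : R' ⊗[R] M) :
    toGr R R' B B' M (r • w) = algebraMap R' B' r • toGr R R' B B' M w := by
  induction w using TensorProduct.induction_on with
  | zero => simp
  | add x y hx hy => simp only [smul_add, map_add, hx, hy]
  | tmul x s => rw [TensorProduct.smul_tmul', toGr_tmul, toGr_tmul, smul_eq_mul, map_mul, TensorProduct.smul_tmul', smul_eq_mul]

set_option maxHeartbeats 800000 in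
/-- The graded map of a base change is onto, and injective when the kernel of `R' ⊗ I^n → I'^n` dies. -/
theorem graded_surj_inj (n : ℕ) (hπ : Function.Surjective (algebraMap R B))
    (hπ' : Function.Surjective (algebraMap R' B'))
    (hI : RingHom.ker (algebraMap R' B') = (RingHom.ker (algebraMap R B)).map (algebraMap R R'))
    (ι : M →ₗ[R] R) (hι : Function.Injective ι) (hιr : LinearMap.range ι = RingHom.ker (algebraMap R B) ^ n)
    (ι' : M' →ₗ[R'] R') (hι' : Function.Injective ι') (hιr' : LinearMap.range ι' = RingHom.ker (algebraMap R' B') ^ n)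
    (ψ : B' ⊗[B] (B ⊗[R] M) →+ B' ⊗[R'] M')
    (hψ : ∀ (b' : B') (s : M) (s' : M'), ι' s' = algebraMap R R' (ι s) →
      ψ (b' ⊗ₜ ((1 : B) ⊗ₜ s)) = b' ⊗ₜ s') :
    Function.Surjective ψ ∧
      ((∀ z : R' ⊗[R] M, ι.baseChange R' z = 0 → toGr R R' B B' M z = 0) → Function.Injective ψ) := by
  letI : Module R M' := Module.compHom M' (algebraMap R R')
  haveI : IsScalarTower R R' M' := IsScalarTower.of_algebraMap_smul fun _ _ => rfl
  have hmem : ∀ s, algebraMap R R' (ι s) ∈ LinearMap.range ι' := fun s => by
    rw [hιr', hI, ← Ideal.map_pow]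
    exact Ideal.mem_map_of_mem _ (hιr ▸ LinearMap.mem_range_self ι s)
  let e' := LinearEquiv.ofInjective ι' hι'
  let μ₀ : M →ₗ[R] M' :=
    { toFun := fun s => e'.symm ⟨_, hmem s⟩
      map_add' := fun s t => hι' (by
        rw [map_add ι']
        simp only [e', LinearEquiv.ofInjective_symm_apply, map_add])
      map_smul' := fun r s => hι' (by
        show ι' _ = ι' (algebraMap R R' r • e'.symm ⟨_, hmem s⟩)
        simp only [e', LinearEquiv.ofInjective_symm_apply, map_smul ι', map_smul ι, smul_eq_mul, map_mul]) }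
  have hμ₀ : ∀ s, ι' (μ₀ s) = algebraMap R R' (ι s) := fun s => by
    simp only [μ₀, e', LinearMap.coe_mk, AddHom.coe_mk, LinearEquiv.ofInjective_symm_apply]
  let μ : R' ⊗[R] M →ₗ[R'] M' := LinearMap.liftBaseChange R' μ₀
  have hμι : ∀ z, ι' (μ z) = (TensorProduct.rid R R').toLinearMap ((ι.baseChange R') z) := by
    intro z
    induction z using TensorProduct.induction_on with
    | zero => simp
    | add x y hx hy => simp only [map_add, hx, hy]
    | tmul r s => simp [μ, hμ₀, Algebra.smul_def, mul_comm]
  have hμs : Function.Surjective μ := by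
    intro m
    have hm : ι' m ∈ (RingHom.ker (algebraMap R B) ^ n).map (algebraMap R R') := by
      rw [Ideal.map_pow, ← hI, ← hιr']
      exact LinearMap.mem_range_self ι' m
    have hle : (RingHom.ker (algebraMap R B) ^ n).map (algebraMap R R') ≤ Submodule.map ι' (LinearMap.range μ) := by
      rw [Ideal.map_le_iff_le_comap]
      intro r hr
      rw [← hιr] at hr
      obtain ⟨s, rfl⟩ := hr
      exact ⟨μ₀ s, ⟨1 ⊗ₜ s, by simp [μ]⟩, hμ₀ s⟩
    obtain ⟨y, hy, hy'⟩ := hle hm
    rw [← hι' hy']
    exact hy
  let q := toGr R R' B B' M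
  have hψq : ∀ z, ψ (q z) = (1 : B') ⊗ₜ[R'] μ z := by
    intro z
    induction z using TensorProduct.induction_on with
    | zero => simp
    | add x y hx hy => simp only [map_add, TensorProduct.tmul_add, hx, hy]
    | tmul r s =>
      rw [toGr_tmul, hψ _ s (μ₀ s) (hμ₀ s), show μ (r ⊗ₜ s) = r • μ₀ s by simp [μ],
        ← TensorProduct.smul_tmul, Algebra.smul_def, _root_.mul_one]
  have hqs : Function.Surjective q := by
    intro x
    induction x using TensorProduct.induction_on with
    | zero => exact ⟨0, map_zero _⟩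
    | add x y hx hy =>
      obtain ⟨a, rfl⟩ := hx
      obtain ⟨b, rfl⟩ := hy
      exact ⟨a + b, map_add _ _ _⟩
    | tmul b' w =>
      induction w using TensorProduct.induction_on with
      | zero => exact ⟨0, by simp⟩
      | add x y hx hy =>
        obtain ⟨a, ha⟩ := hx
        obtain ⟨b, hb⟩ := hy
        exact ⟨a + b, by rw [map_add, ha, hb, TensorProduct.tmul_add]⟩
      | tmul b s =>
        obtain ⟨r', rfl⟩ := hπ' b'
        obtain ⟨r, rfl⟩ := hπ b
        refine ⟨r' ⊗ₜ (r • s), ?_⟩
        rw [toGr_tmul, Algebra.algebraMap_eq_smul_one r, TensorProduct.smul_tmul]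
  refine ⟨fun y => ?_, fun H => (injective_iff_map_eq_zero ψ).2 fun x hx => ?_⟩
  · induction y using TensorProduct.induction_on with
    | zero => exact ⟨0, map_zero _⟩
    | add x y hx hy =>
      obtain ⟨a, rfl⟩ := hx
      obtain ⟨b, rfl⟩ := hy
      exact ⟨a + b, map_add _ _ _⟩
    | tmul b' m =>
      obtain ⟨r', rfl⟩ := hπ' b'
      obtain ⟨z, rfl⟩ := hμs m
      exact ⟨q (r' • z), by rw [hψq, map_smul, ← TensorProduct.smul_tmul, Algebra.smul_def, _root_.mul_one]⟩
  · obtain ⟨z, rfl⟩ := hqs x
    rw [hψq] at hx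
    have hmem' : μ z ∈ RingHom.ker (algebraMap R' B') • (⊤ : Submodule R' M') := by
      let I' : Ideal R' := RingHom.ker (algebraMap R' B')
      have hex : Function.Exact (I'.subtype) (Algebra.linearMap R' B') := LinearMap.exact_iff.mpr (by
        rw [Submodule.range_subtype]; rfl)
      have h0 : (Algebra.linearMap R' B').rTensor M' ((1 : R') ⊗ₜ μ z) = 0 := by
        rw [LinearMap.rTensor_tmul]
        simpa using hx
      obtain ⟨t, ht⟩ := ((rTensor_exact M' hex hπ') _).1 h0
      have e : μ z = TensorProduct.lid R' M' ((I'.subtype).rTensor M' t) := by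
        rw [ht, TensorProduct.lid_tmul, one_smul]
      rw [e]
      clear ht e
      induction t using TensorProduct.induction_on with
      | zero => simp
      | add x y hx hy => simp only [map_add]; exact Submodule.add_mem _ hx hy
      | tmul i m =>
        simp only [LinearMap.rTensor_tmul, TensorProduct.lid_tmul]
        exact Submodule.smul_mem_smul i.2 Submodule.mem_top
    rw [← LinearMap.range_eq_top.2 hμs, ← Submodule.map_top, ← Submodule.map_smul''] at hmem'
    obtain ⟨z₀, hz₀, hz₀'⟩ := hmem'
    have hq₀ : q z₀ = 0 := by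
      refine Submodule.smul_induction_on hz₀ (fun r hr w _ => ?_) (fun x y hx hy => by rw [map_add, hx, hy, add_zero])
      rw [toGr_smul, show algebraMap R' B' r = 0 from hr, zero_smul]
    have h := H (z - z₀) (by
      apply (TensorProduct.rid R R').injective
      rw [map_zero]
      refine (hμι _).symm.trans ?_
      rw [map_sub, hz₀', sub_self, map_zero])
    rw [map_sub, hq₀, sub_zero] at h
    exact h

omit [AddCommGroup M'] [Module R' M'] in
/-- Flat base change. -/
theorem baseChange_ker_of_flat [Module.Flat R R'] (ι : M →ₗ[R] R) (hι : Function.Injective ι) (z : R' ⊗[R] M)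
    (hz : ι.baseChange R' z = 0) : toGr R R' B B' M z = 0 := by
  rw [Module.Flat.lTensor_preserves_injective_linearMap ι hι (show ι.lTensor R' z = ι.lTensor R' 0 by
    rw [map_zero]; exact hz), map_zero]

set_option maxHeartbeats 800000 in
omit [AddCommGroup M'] [Module R' M'] in
/-- Base change along the base of a section with flat graded pieces. -/
theorem baseChange_ker_of_section {A A' : Type u} [CommRing A] [CommRing A'] [Algebra A A'] [Algebra A R]
    [Algebra A' R'] [Algebra A R'] [IsScalarTower A A' R'] [IsScalarTower A R R'] [Algebra.IsPushout A A' R R']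
    (n : ℕ) (hπ : Function.Surjective (algebraMap R B))
    [Module.Flat A (R ⧸ RingHom.ker (algebraMap R B) ^ n)]
    (ι : M →ₗ[R] R) (hι : Function.Injective ι) (hιr : LinearMap.range ι = RingHom.ker (algebraMap R B) ^ n)
    (z : R' ⊗[R] M) (hz : ι.baseChange R' z = 0) : toGr R R' B B' M z = 0 := by
  let I := RingHom.ker (algebraMap R B)
  letI : Module A M := Module.compHom M (algebraMap A R)
  haveI : IsScalarTower A R M := IsScalarTower.of_algebraMap_smul fun _ _ => rfl
  letI : Algebra A B' := ((algebraMap R' B').comp (algebraMap A R')).toAlgebra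
  let eq' := Algebra.IsPushout.equiv A A' R R'
  have heq : ∀ (a : A') (r : R), eq' (a ⊗ₜ r) = algebraMap A' R' a * algebraMap R R' r := fun a r => by
    rw [Algebra.IsPushout.equiv_tmul]
  let σ : A' ⊗[A] M →+ R' ⊗[R] M := TensorProduct.liftAddHom
    (AddMonoidHom.mk' (fun a : A' => AddMonoidHom.mk' (fun s : M => algebraMap A' R' a ⊗ₜ[R] s)
        fun s t => TensorProduct.tmul_add _ _ _)
      fun a a' => by ext s; exact (congrArg (· ⊗ₜ[R] s) (map_add _ a a')).trans (TensorProduct.add_tmul _ _ _))
    fun c a s => by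
      show algebraMap A' R' (c • a) ⊗ₜ[R] s = algebraMap A' R' a ⊗ₜ[R] (c • s)
      rw [Algebra.smul_def, map_mul, ← IsScalarTower.algebraMap_apply A A' R', IsScalarTower.algebraMap_apply A R R',
        ← Algebra.smul_def, TensorProduct.smul_tmul, algebraMap_smul]
  have hσt : ∀ a s, σ (a ⊗ₜ s) = algebraMap A' R' a ⊗ₜ[R] s := fun _ _ => rfl
  have hσs : Function.Surjective σ := by
    intro x
    induction x using TensorProduct.induction_on with
    | zero => exact ⟨0, map_zero _⟩
    | add x y hx hy =>
      obtain ⟨a, rfl⟩ := hx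
      obtain ⟨b, rfl⟩ := hy
      exact ⟨a + b, map_add _ _ _⟩
    | tmul r' s =>
      obtain ⟨t, rfl⟩ := eq'.surjective r'
      induction t using TensorProduct.induction_on with
      | zero => exact ⟨0, by simp⟩
      | add x y hx hy =>
        obtain ⟨a, ha⟩ := hx
        obtain ⟨b, hb⟩ := hy
        exact ⟨a + b, by rw [map_add, ha, hb, map_add eq', TensorProduct.add_tmul]⟩
      | tmul a r =>
        refine ⟨a ⊗ₜ (r • s), ?_⟩
        rw [hσt, heq, mul_comm, ← Algebra.smul_def, TensorProduct.smul_tmul]
  obtain ⟨w, rfl⟩ := hσs z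
  let ιA : M →ₗ[A] R := ι.restrictScalars A
  have hw : ιA.lTensor A' w = 0 := by
    apply eq'.injective
    rw [map_zero]
    have e : ∀ w, eq' (ιA.lTensor A' w) = TensorProduct.rid R R' (ι.baseChange R' (σ w)) := fun w => by
      induction w using TensorProduct.induction_on with
      | zero => simp
      | add x y hx hy => simp only [map_add, hx, hy]
      | tmul a s =>
        rw [LinearMap.lTensor_tmul, heq, hσt, LinearMap.baseChange_tmul, TensorProduct.rid_tmul, Algebra.smul_def,
          mul_comm]
        rfl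
    rw [e, hz, map_zero]
  -- the graded piece
  let N : Submodule R M := I • ⊤
  have hNI : N.map ι = I ^ (n + 1) := by
    rw [Submodule.map_smul'', Submodule.map_top, hιr, pow_succ', smul_eq_mul]
  let j : (M ⧸ N) →ₗ[R] R ⧸ I ^ (n + 1) := N.mapQ _ ι (Submodule.map_le_iff_le_comap.mp hNI.le)
  have hj : Function.Injective j := by
    rw [← LinearMap.ker_eq_bot, eq_bot_iff]
    intro x hx
    obtain ⟨m, rfl⟩ := N.mkQ_surjective x
    have h : ι m ∈ I ^ (n + 1) := (Submodule.Quotient.mk_eq_zero _).1 hx
    rw [← hNI] at h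
    obtain ⟨m', hm', he⟩ := h
    rw [Submodule.mem_bot, Submodule.mkQ_apply, Submodule.Quotient.mk_eq_zero, ← hι he]
    exact hm'
  let g : (R ⧸ I ^ (n + 1)) →ₗ[A] R ⧸ I ^ n :=
    (Ideal.Quotient.factorₐ A (Ideal.pow_le_pow_right (I := I) (Nat.le_add_right n 1))).toLinearMap
  have hg : Function.Surjective g := Ideal.Quotient.factor_surjective (Ideal.pow_le_pow_right (I := I) (Nat.le_add_right n 1))
  have hexact : Function.Exact (j.restrictScalars A) g := by
    intro x
    obtain ⟨r, rfl⟩ := Ideal.Quotient.mk_surjective x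
    constructor
    · intro h
      have h' : r ∈ LinearMap.range ι := by
        rw [hιr]
        exact Ideal.Quotient.eq_zero_iff_mem.1 h
      obtain ⟨m, hm⟩ := h'
      exact ⟨N.mkQ m, congrArg (Ideal.Quotient.mk _) hm⟩
    · rintro ⟨y, hy⟩
      obtain ⟨m, rfl⟩ := N.mkQ_surjective y
      rw [← hy]
      exact Ideal.Quotient.eq_zero_iff_mem.2 (hιr ▸ LinearMap.mem_range_self ι m)
  have hG : (N.mkQ.restrictScalars A).lTensor A' w = 0 := by
    apply LinearMap.lTensor_injective_of_exact_of_flat g hg (j.restrictScalars A) hj hexact A'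
    rw [map_zero, ← LinearMap.comp_apply, ← LinearMap.lTensor_comp]
    have e : (j.restrictScalars A).comp (N.mkQ.restrictScalars A) =
        (Ideal.Quotient.mkₐ A (I ^ (n + 1))).toLinearMap.comp ιA := LinearMap.ext fun m => rfl
    rw [e, LinearMap.lTensor_comp, LinearMap.comp_apply, hw, map_zero]
  -- descend to the target
  have hker : ∀ (a : A') (m : M), m ∈ N → toGr R R' B B' M (σ (a ⊗ₜ m)) = 0 := by
    intro a m hm
    refine Submodule.smul_induction_on hm (fun r hr x _ => ?_)
      (fun x y hx hy => by rw [TensorProduct.tmul_add, map_add, map_add, hx, hy, add_zero])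
    · rw [hσt, toGr_tmul, TensorProduct.tmul_smul, TensorProduct.smul_tmul', Algebra.smul_def,
        show algebraMap R B r = 0 from hr, zero_mul, TensorProduct.zero_tmul, TensorProduct.tmul_zero]
  have hex2 : Function.Exact (N.subtype.restrictScalars A) (N.mkQ.restrictScalars A) :=
    LinearMap.exact_subtype_mkQ N
  obtain ⟨t, ht⟩ := ((lTensor_exact A' hex2 N.mkQ_surjective) w).1 hG
  rw [← ht]
  clear ht
  induction t using TensorProduct.induction_on with
  | zero => simp
  | add x y hx hy => simp only [map_add, hx, hy, add_zero]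
  | tmul a m => exact hker a m.1 m.2

omit [Algebra R R'] [Algebra R' B'] [Algebra B B'] [Algebra R B'] [IsScalarTower R R' B'] [IsScalarTower R B B']
  [AddCommGroup M] [Module R M] [AddCommGroup M'] [Module R' M'] in
/-- `R / I^n` is flat over the base when the graded pieces are. -/
theorem flat_quot_pow {A : Type u} [CommRing A] [Algebra A R] (hπ : Function.Surjective (algebraMap R B))
    [Algebra A B] [IsScalarTower A R B] (hAB : Function.Bijective (algebraMap A B)) (n : ℕ)
    (hk : ∀ k, k < n → Module.Flat B (B ⊗[R] ↥(RingHom.ker (algebraMap R B) ^ k))) :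
    Module.Flat A (R ⧸ RingHom.ker (algebraMap R B) ^ n) := by
  let I := RingHom.ker (algebraMap R B)
  induction n with
  | zero =>
    haveI : Subsingleton (R ⧸ I ^ 0) := Ideal.Quotient.subsingleton_iff.2 (by rw [pow_zero, Ideal.one_eq_top])
    exact inferInstance
  | succ k ih =>
    haveI := ih fun l hl => hk l (Nat.lt_succ_of_lt hl)
    haveI := hk k (Nat.lt_succ_self k)
    haveI : Module.Flat A B := by
      have := Algebra.linearMap A B
      exact Module.Flat.of_linearEquiv (LinearEquiv.ofBijective (Algebra.linearMap A B) hAB).symm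
    haveI : Module.Flat A (B ⊗[R] ↥(I ^ k)) := Module.Flat.trans A B _
    let l : B ⊗[R] ↥(I ^ k) →ₗ[R] R ⧸ I ^ (k + 1) :=
      TensorProduct.lift
        { toFun := fun b =>
            (Classical.choose (hπ b)) • ((Submodule.mkQ (I ^ (k + 1))).comp (I ^ k).subtype)
          map_add' := fun b b' => by
            ext m
            simp only [LinearMap.smul_apply, LinearMap.add_apply, LinearMap.comp_apply, Submodule.mkQ_apply,
              ← Submodule.Quotient.mk_smul, ← Submodule.Quotient.mk_add, Submodule.Quotient.eq]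
            rw [← add_smul, ← sub_smul, smul_eq_mul, pow_succ']
            refine Ideal.mul_mem_mul ?_ m.2
            rw [RingHom.mem_ker, map_sub, map_add, Classical.choose_spec (hπ b), Classical.choose_spec (hπ b'),
              Classical.choose_spec (hπ (b + b')), sub_self]
          map_smul' := fun r b => by
            ext m
            simp only [LinearMap.smul_apply, RingHom.id_apply, LinearMap.comp_apply, Submodule.mkQ_apply,
              ← Submodule.Quotient.mk_smul, Submodule.Quotient.eq]
            rw [smul_smul, ← sub_smul, smul_eq_mul, pow_succ']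
            refine Ideal.mul_mem_mul ?_ m.2
            rw [RingHom.mem_ker, map_sub, map_mul, Classical.choose_spec (hπ b),
              Classical.choose_spec (hπ (r • b)), Algebra.smul_def, sub_self] }
    have hl : ∀ (r : R) (m : ↥(I ^ k)), l (algebraMap R B r ⊗ₜ m) = (Submodule.Quotient.mk (r * m.1) : R ⧸ I ^ (k + 1)) := fun r m => by
      show Classical.choose (hπ (algebraMap R B r)) • (Submodule.Quotient.mk (m.1 : R) : R ⧸ I ^ (k + 1)) = _
      rw [← Submodule.Quotient.mk_smul, Submodule.Quotient.eq, smul_eq_mul, ← sub_mul, pow_succ']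
      refine Ideal.mul_mem_mul ?_ m.2
      rw [RingHom.mem_ker, map_sub, Classical.choose_spec (hπ (algebraMap R B r)), sub_self]
    have hone : ∀ x : B ⊗[R] ↥(I ^ k), ∃ m : ↥(I ^ k), x = (1 : B) ⊗ₜ m := fun x => by
      obtain ⟨m, hm⟩ := TensorProduct.mk_surjective R _ B hπ x
      exact ⟨m, hm.symm⟩
    have hli : Function.Injective l := (injective_iff_map_eq_zero l).2 fun x hx => by
      obtain ⟨m, rfl⟩ := hone x
      rw [← map_one (algebraMap R B), hl, _root_.one_mul, Submodule.Quotient.mk_eq_zero] at hx
      have hm : m.1 ∈ Submodule.map (I ^ k).subtype (I • (⊤ : Submodule R ↥(I ^ k))) := by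
        rw [Submodule.map_smul'', Submodule.map_top, Submodule.range_subtype, smul_eq_mul, ← pow_succ']
        exact hx
      obtain ⟨m', hm', he⟩ := hm
      rw [← show m' = m from Subtype.ext he]
      clear he
      refine Submodule.smul_induction_on hm' (fun r hr x _ => ?_)
        (fun x y hx hy => by rw [TensorProduct.tmul_add, hx, hy, add_zero])
      · rw [TensorProduct.tmul_smul, TensorProduct.smul_tmul', Algebra.smul_def,
          show algebraMap R B r = 0 from hr, zero_mul, TensorProduct.zero_tmul]
    let g : (R ⧸ I ^ (k + 1)) →ₗ[A] R ⧸ I ^ k :=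
      (Ideal.Quotient.factorₐ A (Ideal.pow_le_pow_right (I := I) (Nat.le_add_right k 1))).toLinearMap
    refine FlatSES.flat_middle (f := l.restrictScalars A) (g := g) hli ?_
      (Ideal.Quotient.factor_surjective (Ideal.pow_le_pow_right (I := I) (Nat.le_add_right k 1)))
    intro x
    obtain ⟨r, rfl⟩ := Ideal.Quotient.mk_surjective x
    constructor
    · intro h
      refine ⟨(1 : B) ⊗ₜ ⟨r, Ideal.Quotient.eq_zero_iff_mem.1 h⟩, ?_⟩
      show l _ = _
      rw [← map_one (algebraMap R B), hl, _root_.one_mul]
      rfl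
    · rintro ⟨y, hy⟩
      obtain ⟨m, rfl⟩ := hone y
      rw [← hy]
      show g (l _) = 0
      rw [← map_one (algebraMap R B), hl, _root_.one_mul]
      exact Ideal.Quotient.eq_zero_iff_mem.2 m.2

end Groth.Agent.PrinBC
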