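import Groth.Prelude.Def_OmegaPn
import Groth.Agent.PrinBC.Graded
import Groth.Agent.ModDesc.BaseChange
import Groth.Agent.ModDesc.Func
import Groth.Agent.QC.IdealMod
import Groth.Agent.QC.Closure
import Groth.Agent.FpqcDescent.IdealGlue
import Groth.Agent.S5969
import Groth.Agent.OmegaLib.Coords

/-!
# The graded pieces of an ideal under base change
-/

set_option autoImplicit false
set_option backward.isDefEq.respectTransparency false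
set_option backward.isDefEq.respectTransparency.types false
set_option linter.style.haveILetI false
set_option synthInstance.maxHeartbeats 400000

universe u

open CategoryTheory CategoryTheory.Limits AlgebraicGeometry TopologicalSpace Opposite TensorProduct

noncomputable section

namespace Groth.Agent.PrinBC

open Groth.Agent.QC Groth.Agent.ModDesc

/-- Sections of an ideal module as functions, linearly. -/
def sectLin {X : Scheme.{u}} (I : X.IdealSheafData) (U : X.Opens) :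
    Γ(ClSub.idealMod I, U) →ₗ[Γ(X, U)] Γ(X, U) where
  toFun s := OmegaSh.idealSect I U s
  map_add' s t := map_add _ s t
  map_smul' r s := Scheme.Modules.Hom.app_smul (ClSub.idealModι I) r s

theorem sectLin_injective {X : Scheme.{u}} (I : X.IdealSheafData) (U : X.Opens) :
    Function.Injective (sectLin I U) :=
  QC.app_injective_of_mono (ClSub.idealModι I) U

theorem range_sectLin {X : Scheme.{u}} (I : X.IdealSheafData) (n : ℕ) (U : X.affineOpens) :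
    LinearMap.range (sectLin (I ^ n) U.1) = (I.ideal U) ^ n := by
  ext t
  refine Iff.trans ?_ (Iff.of_eq (congrArg (t ∈ ·) (show (I ^ n).ideal U = _ by
    rw [Scheme.IdealSheafData.ideal_pow]; rfl)))
  exact QC.mem_range_idealModι_affine (I ^ n) U t

theorem sectLin_res {X : Scheme.{u}} (I : X.IdealSheafData) {V U : X.Opens} (h : V ≤ U)
    (s : Γ(ClSub.idealMod I, U)) :
    sectLin I V (res (ClSub.idealMod I) h s) = X.presheaf.map (homOfLE h).op (OmegaSh.idealSect I U s) :=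
  (QC.app_res (ClSub.idealModι I) h s).symm

theorem comap_pow' {X Y : Scheme.{u}} (I : Y.IdealSheafData) (g : X ⟶ Y) (n : ℕ) :
    (I ^ n).comap g = (I.comap g) ^ n := by
  cases n with
  | zero => rw [pow_zero, pow_zero]; exact Scheme.IdealSheafData.comap_top g
  | succ m => exact S5969.comap_pow I g m

/-- A section of `I^n` pulls back to a section of the pulled back power. -/
theorem exists_pullback_section {X X' : Scheme.{u}} (v : X' ⟶ X) (I : X.IdealSheafData) (I' : X'.IdealSheafData)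
    (hI : I.comap v ≤ I') (U : X.Opens) (s : Γ(ClSub.idealMod I, U)) :
    ∃ t : Γ(ClSub.idealMod I', v ⁻¹ᵁ U),
      OmegaSh.idealSect I' (v ⁻¹ᵁ U) t = v.app U (OmegaSh.idealSect I U s) := by
  obtain ⟨t, ht⟩ := (QC.mem_range_idealModι I' (v ⁻¹ᵁ U) (v.app U (OmegaSh.idealSect I U s))).2 (by
    have h0 : I.subschemeι.app U (OmegaSh.idealSect I U s) = 0 :=
      (QC.mem_range_idealModι I U _).1 ⟨s, rfl⟩
    have h : Scheme.IdealSheafData.subschemeMap I' I v (Scheme.IdealSheafData.le_map_iff_comap_le.2 hI) ≫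
        I.subschemeι = I'.subschemeι ≫ v := Scheme.IdealSheafData.subschemeMap_subschemeι _ _ _ _
    have h1 := congr($(Scheme.Hom.congr_app h U) (OmegaSh.idealSect I U s))
    simp only [Scheme.Hom.comp_app, CommRingCat.comp_apply, h0, map_zero] at h1
    exact (map_eq_zero_iff _ (ConcreteCategory.bijective_of_isIso
      (I'.subscheme.presheaf.map (eqToHom _).op)).1).1 h1.symm)
  exact ⟨t, ht⟩

set_option maxHeartbeats 1600000 in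
/-- The canonical map of graded pieces over affine opens. -/
theorem grMap_app {Y X Y' X' : Scheme.{u}} {f : Y ⟶ X} [IsClosedImmersion f] {v : X' ⟶ X} {u : Y' ⟶ Y}
    {f' : Y' ⟶ X'} [IsClosedImmersion f'] (hker : f.ker.comap v = f'.ker) {n : ℕ}
    {φ : (Scheme.Modules.pullback u).obj (PrinPart.grMod f n) ⟶ PrinPart.grMod f' n}
    (hφ : PrinPart.IsGrMap f' f v u n φ) {U : X.Opens} (hU : IsAffineOpen U) {U' : X'.Opens}
    (hU' : IsAffineOpen U') (e : U' ≤ v ⁻¹ᵁ U) (ew : f' ⁻¹ᵁ U' ≤ u ⁻¹ᵁ (f ⁻¹ᵁ U)) :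
    letI : Algebra Γ(X, U) Γ(X', U') := (v.appLE U U' e).hom.toAlgebra
    letI : Algebra Γ(X, U) Γ(Y, f ⁻¹ᵁ U) := (f.appLE U (f ⁻¹ᵁ U) le_rfl).hom.toAlgebra
    letI : Algebra Γ(X', U') Γ(Y', f' ⁻¹ᵁ U') := (f'.appLE U' (f' ⁻¹ᵁ U') le_rfl).hom.toAlgebra
    letI : Algebra Γ(Y, f ⁻¹ᵁ U) Γ(Y', f' ⁻¹ᵁ U') := (u.appLE (f ⁻¹ᵁ U) (f' ⁻¹ᵁ U') ew).hom.toAlgebra
    letI : Algebra Γ(X, U) Γ(Y', f' ⁻¹ᵁ U') :=
      ((f'.appLE U' (f' ⁻¹ᵁ U') le_rfl).hom.comp (v.appLE U U' e).hom).toAlgebra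
    ∃ (_ : IsScalarTower Γ(X, U) Γ(X', U') Γ(Y', f' ⁻¹ᵁ U'))
      (_ : IsScalarTower Γ(X, U) Γ(Y, f ⁻¹ᵁ U) Γ(Y', f' ⁻¹ᵁ U')),
      Function.Surjective (φ.app (f' ⁻¹ᵁ U')) ∧
      ((∀ z : Γ(X', U') ⊗[Γ(X, U)] Γ(ClSub.idealMod (f.ker ^ n), U),
          (sectLin (f.ker ^ n) U).baseChange Γ(X', U') z = 0 →
            toGr Γ(X, U) Γ(X', U') Γ(Y, f ⁻¹ᵁ U) Γ(Y', f' ⁻¹ᵁ U') Γ(ClSub.idealMod (f.ker ^ n), U) z = 0) →
        Function.Injective (φ.app (f' ⁻¹ᵁ U'))) := by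
  obtain ⟨hsq, hval⟩ := hφ
  haveI : IsAffineHom f := inferInstance
  haveI : IsAffineHom f' := inferInstance
  have hW : IsAffineOpen (f ⁻¹ᵁ U) := hU.preimage f
  have hW' : IsAffineOpen (f' ⁻¹ᵁ U') := hU'.preimage f'
  haveI hqM : Coh.IsQCoh (ClSub.idealMod (f.ker ^ n)) := QC.isQCoh_idealMod _
  haveI hqM' : Coh.IsQCoh (ClSub.idealMod (f'.ker ^ n)) := QC.isQCoh_idealMod _
  haveI hqG : Coh.IsQCoh (PrinPart.grMod f n) := isQCoh_pullback _ hqM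
  obtain ⟨Φ1, hΦ1⟩ := exists_bijective_liftBaseChange f (ClSub.idealMod (f.ker ^ n)) (hH := hqM) hU hW le_rfl
  obtain ⟨Φ3, hΦ3⟩ := exists_bijective_liftBaseChange f' (ClSub.idealMod (f'.ker ^ n)) (hH := hqM') hU' hW' le_rfl
  obtain ⟨Φ2, hΦ2⟩ := exists_bijective_liftBaseChange u (PrinPart.grMod f n) (hH := hqG) hW hW' ew
  letI : Algebra Γ(X, U) Γ(X', U') := (v.appLE U U' e).hom.toAlgebra
  letI : Algebra Γ(X, U) Γ(Y, f ⁻¹ᵁ U) := (f.appLE U (f ⁻¹ᵁ U) le_rfl).hom.toAlgebra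
  letI : Algebra Γ(X', U') Γ(Y', f' ⁻¹ᵁ U') := (f'.appLE U' (f' ⁻¹ᵁ U') le_rfl).hom.toAlgebra
  letI : Algebra Γ(Y, f ⁻¹ᵁ U) Γ(Y', f' ⁻¹ᵁ U') := (u.appLE (f ⁻¹ᵁ U) (f' ⁻¹ᵁ U') ew).hom.toAlgebra
  letI : Algebra Γ(X, U) Γ(Y', f' ⁻¹ᵁ U') :=
    ((f'.appLE U' (f' ⁻¹ᵁ U') le_rfl).hom.comp (v.appLE U U' e).hom).toAlgebra
  have ht1 : IsScalarTower Γ(X, U) Γ(X', U') Γ(Y', f' ⁻¹ᵁ U') := IsScalarTower.of_algebraMap_eq' rfl
  have ht2 : IsScalarTower Γ(X, U) Γ(Y, f ⁻¹ᵁ U) Γ(Y', f' ⁻¹ᵁ U') := IsScalarTower.of_algebraMap_eq fun r => by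
    show (v.appLE U U' e ≫ f'.appLE U' (f' ⁻¹ᵁ U') le_rfl) r =
      (f.appLE U (f ⁻¹ᵁ U) le_rfl ≫ u.appLE (f ⁻¹ᵁ U) (f' ⁻¹ᵁ U') ew) r
    rw [Scheme.Hom.appLE_comp_appLE, Scheme.Hom.appLE_comp_appLE]
    exact congr($(FpqcDescent.appLE_congr hsq.symm U (f' ⁻¹ᵁ U') (f'.preimage_mono e) ew) r)
  have hπ : Function.Surjective (algebraMap Γ(X, U) Γ(Y, f ⁻¹ᵁ U)) := by
    have := f.app_surjective U hU
    rwa [Scheme.Hom.app_eq_appLE] at this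
  have hπ' : Function.Surjective (algebraMap Γ(X', U') Γ(Y', f' ⁻¹ᵁ U')) := by
    have := f'.app_surjective U' hU'
    rwa [Scheme.Hom.app_eq_appLE] at this
  have hk : RingHom.ker (algebraMap Γ(X, U) Γ(Y, f ⁻¹ᵁ U)) = f.ker.ideal ⟨U, hU⟩ := by
    rw [Scheme.Hom.ker_apply, Scheme.Hom.app_eq_appLE]; rfl
  have hk' : RingHom.ker (algebraMap Γ(X', U') Γ(Y', f' ⁻¹ᵁ U')) = f'.ker.ideal ⟨U', hU'⟩ := by
    rw [Scheme.Hom.ker_apply, Scheme.Hom.app_eq_appLE]; rfl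
  have hI : RingHom.ker (algebraMap Γ(X', U') Γ(Y', f' ⁻¹ᵁ U')) =
      (RingHom.ker (algebraMap Γ(X, U) Γ(Y, f ⁻¹ᵁ U))).map (algebraMap Γ(X, U) Γ(X', U')) := by
    rw [hk, hk', ← hker]
    exact FpqcDescent.ideal_comap_appLE f.ker v ⟨U, hU⟩ ⟨U', hU'⟩ e
  let ψ : Γ(Y', f' ⁻¹ᵁ U') ⊗[Γ(Y, f ⁻¹ᵁ U)] (Γ(Y, f ⁻¹ᵁ U) ⊗[Γ(X, U)] Γ(ClSub.idealMod (f.ker ^ n), U)) →+
      Γ(Y', f' ⁻¹ᵁ U') ⊗[Γ(X', U')] Γ(ClSub.idealMod (f'.ker ^ n), U') :=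
    ((Φ3.symm.toAddEquiv.toAddMonoidHom.comp (φ.app (f' ⁻¹ᵁ U')).hom).comp Φ2.toAddEquiv.toAddMonoidHom).comp
      (LinearEquiv.lTensor Γ(Y', f' ⁻¹ᵁ U') Φ1).toAddEquiv.toAddMonoidHom
  have hψ : ∀ (b' : Γ(Y', f' ⁻¹ᵁ U')) (s : Γ(ClSub.idealMod (f.ker ^ n), U))
      (s' : Γ(ClSub.idealMod (f'.ker ^ n), U')),
      sectLin (f'.ker ^ n) U' s' = algebraMap Γ(X, U) Γ(X', U') (sectLin (f.ker ^ n) U s) →
      ψ (b' ⊗ₜ ((1 : Γ(Y, f ⁻¹ᵁ U)) ⊗ₜ s)) = b' ⊗ₜ s' := by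
    intro b' s s' hs
    obtain ⟨t, ht⟩ := exists_pullback_section v (f.ker ^ n) (f'.ker ^ n)
      (le_of_eq (by rw [comap_pow', hker])) U s
    have hs' : res (ClSub.idealMod (f'.ker ^ n)) e t = s' := by
      apply sectLin_injective
      rw [hs, sectLin_res, ht]
      rfl
    show Φ3.symm (φ.app (f' ⁻¹ᵁ U') (Φ2 (b' ⊗ₜ Φ1 ((1 : Γ(Y, f ⁻¹ᵁ U)) ⊗ₜ s)))) = _
    rw [LinearEquiv.symm_apply_eq, hΦ1, show b' ⊗ₜ[Γ(X', U')] s' = b' • ((1 : Γ(Y', f' ⁻¹ᵁ U')) ⊗ₜ[Γ(X', U')] s') by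
      rw [TensorProduct.smul_tmul', smul_eq_mul, _root_.mul_one], map_smul, hΦ3,
      show ∀ x, b' ⊗ₜ[Γ(Y, f ⁻¹ᵁ U)] x = b' • ((1 : Γ(Y', f' ⁻¹ᵁ U')) ⊗ₜ[Γ(Y, f ⁻¹ᵁ U)] x) from fun x => by
        rw [TensorProduct.smul_tmul', smul_eq_mul, _root_.mul_one], map_smul, hΦ2, Scheme.Modules.Hom.app_smul]
    congr 1
    rw [pullSectLE_apply, pullSectLE_apply, pullSectLE_apply, res_self, ← QC.app_res]
    refine (hval U s t ht (f' ⁻¹ᵁ U') ew (f'.preimage_mono e)).trans ?_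
    subst hs'
    exact (congrArg (res _ (le_refl (f' ⁻¹ᵁ U'))) (OmegaSh.pullSect_map f' _ e t)).trans (res_res _ _ _ _) |>.symm
  obtain ⟨hsurj, hinj⟩ := graded_surj_inj n hπ hπ' hI (sectLin (f.ker ^ n) U) (sectLin_injective _ _)
    (by rw [hk]; exact range_sectLin f.ker n ⟨U, hU⟩) (sectLin (f'.ker ^ n) U') (sectLin_injective _ _)
    (by rw [hk']; exact range_sectLin f'.ker n ⟨U', hU'⟩) ψ hψ
  have hfact : ∀ m, φ.app (f' ⁻¹ᵁ U') m =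
      Φ3 (ψ ((LinearEquiv.lTensor Γ(Y', f' ⁻¹ᵁ U') Φ1).symm (Φ2.symm m))) := fun m => by
    show _ = Φ3 (Φ3.symm (φ.app (f' ⁻¹ᵁ U') (Φ2 (LinearEquiv.lTensor Γ(Y', f' ⁻¹ᵁ U') Φ1
      ((LinearEquiv.lTensor Γ(Y', f' ⁻¹ᵁ U') Φ1).symm (Φ2.symm m))))))
    rw [LinearEquiv.apply_symm_apply, LinearEquiv.apply_symm_apply, LinearEquiv.apply_symm_apply]
  have hfun : (φ.app (f' ⁻¹ᵁ U') : _ → _) = Φ3 ∘ ψ ∘ (LinearEquiv.lTensor Γ(Y', f' ⁻¹ᵁ U') Φ1).symm ∘ Φ2.symm :=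
    funext hfact
  refine ⟨ht1, ht2, ?_, fun H => ?_⟩
  · rw [hfun]
    exact Φ3.surjective.comp (hsurj.comp ((LinearEquiv.lTensor _ Φ1).symm.surjective.comp Φ2.symm.surjective))
  · rw [hfun]
    exact Φ3.injective.comp ((hinj H).comp ((LinearEquiv.lTensor _ Φ1).symm.injective.comp Φ2.symm.injective))

end Groth.Agent.PrinBC
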