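import Groth.Agent.DiffOp.Thick

/-!
# The ring of the thickened diagonal over an affine piece, with its exact kernel
-/

set_option autoImplicit false
set_option backward.isDefEq.respectTransparency false
set_option backward.isDefEq.respectTransparency.types false
set_option linter.style.haveILetI false

universe u

open CategoryTheory CategoryTheory.Limits AlgebraicGeometry TopologicalSpace Opposite
open scoped TensorProduct Pointwise

noncomputable section

namespace Groth.Agent.PrinBC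

open Groth.Agent.DiffOp

/-- The ring of the thickened diagonal over an affine piece is `B ⊗_A B / I^(n+1)`. -/
theorem exists_theta_eq {X S : Scheme.{u}} (f : X ⟶ S) (n : ℕ) {U : X.Opens} (hU : IsAffineOpen U) {V : S.Opens}
    (hV : IsAffineOpen V) (e : U ≤ f ⁻¹ᵁ V) :
    letI := (f.appLE V U e).hom.toAlgebra
    ∃ θ : Γ(X, U) ⊗[Γ(S, V)] Γ(X, U) →+* Γ(PrinPart.nbhd f n, PrinPart.pr1 f n ⁻¹ᵁ U),
      Function.Surjective θ ∧ RingHom.ker θ = KaehlerDifferential.ideal Γ(S, V) Γ(X, U) ^ (n + 1) ∧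
      ∀ a b, θ (a ⊗ₜ b) = (PrinPart.pr1 f n).app U a *
        (PrinPart.pr2 f n).appLE U _ (PrinPart.preimage_pr1 f n U).le b := by
  letI := (f.appLE V U e).hom.toAlgebra
  let φ : Spec Γ(X, U) ⟶ Spec Γ(S, V) := Spec.map (CommRingCat.ofHom (algebraMap Γ(S, V) Γ(X, U)))
  have hφ : φ ≫ hV.fromSpec = hU.fromSpec ≫ f := hV.SpecMap_appLE_fromSpec f hU e
  let R : CommRingCat.{u} := CommRingCat.of (Γ(X, U) ⊗[Γ(S, V)] Γ(X, U))
  let J : Spec R ⟶ pullback f f := (pullbackSpecIso Γ(S, V) Γ(X, U) Γ(X, U)).inv ≫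
    pullback.map φ φ f f hU.fromSpec hU.fromSpec hV.fromSpec hφ hφ
  let i1 : Γ(X, U) ⟶ R := CommRingCat.ofHom Algebra.TensorProduct.includeLeftRingHom
  let i2 : Γ(X, U) ⟶ R := CommRingCat.ofHom
    (Algebra.TensorProduct.includeRight : Γ(X, U) →ₐ[Γ(S, V)] Γ(X, U) ⊗[Γ(S, V)] Γ(X, U)).toRingHom
  let m : R ⟶ Γ(X, U) := CommRingCat.ofHom
    (Algebra.TensorProduct.lmul' Γ(S, V) : Γ(X, U) ⊗[Γ(S, V)] Γ(X, U) →ₐ[Γ(S, V)] Γ(X, U)).toRingHom
  have hJ1 : J ≫ pullback.fst f f = Spec.map i1 ≫ hU.fromSpec := by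
    simp only [J, Category.assoc, pullback.lift_fst]
    rw [← Category.assoc, pullbackSpecIso_inv_fst]
  have hJ2 : J ≫ pullback.snd f f = Spec.map i2 ≫ hU.fromSpec := by
    simp only [J, Category.assoc, pullback.lift_snd]
    rw [← Category.assoc, pullbackSpecIso_inv_snd]
    rfl
  have hm1 : i1 ≫ m = 𝟙 _ := by
    ext b; exact (Algebra.TensorProduct.lmul'_apply_tmul b 1).trans (mul_one b)
  have hm2 : i2 ≫ m = 𝟙 _ := by
    ext b; exact (Algebra.TensorProduct.lmul'_apply_tmul 1 b).trans (one_mul b)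
  have hJΔ : Spec.map m ≫ J = hU.fromSpec ≫ pullback.diagonal f := by
    apply pullback.hom_ext
    · rw [Category.assoc, hJ1, ← Category.assoc, ← Spec.map_comp, hm1, Spec.map_id, Category.id_comp,
        Category.assoc, pullback.diagonal_fst, Category.comp_id]
    · rw [Category.assoc, hJ2, ← Category.assoc, ← Spec.map_comp, hm2, Spec.map_id, Category.id_comp,
        Category.assoc, pullback.diagonal_snd, Category.comp_id]
  haveI : IsOpenImmersion J := inferInstance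
  have hmem : ∀ (x : X) r, pullback.diagonal f x = J r → x ∈ U := fun x r h => by
    have : pullback.fst f f (pullback.diagonal f x) = x := by
      rw [← Scheme.Hom.comp_apply, pullback.diagonal_fst]; rfl
    rw [← this, h, ← Scheme.Hom.comp_apply, hJ1, ← SetLike.mem_coe, ← hU.range_fromSpec]
    exact ⟨_, rfl⟩
  have hpre : ⇑J ⁻¹' Set.range (pullback.diagonal f) ⊆ Set.range (Spec.map m) := by
    rintro r ⟨x, hx⟩
    obtain ⟨y, rfl⟩ : x ∈ Set.range hU.fromSpec := by rw [hU.range_fromSpec]; exact hmem x r hx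
    refine ⟨y, J.isOpenEmbedding.injective ?_⟩
    rw [← hx, ← Scheme.Hom.comp_apply, hJΔ]
    rfl
  have hclosed : IsClosed (Set.range (Spec.map m)) := by
    haveI : IsClosedImmersion (Spec.map m) := IsClosedImmersion.spec_of_surjective m fun b => ⟨i1 b,
      congr($hm1 b)⟩
    exact (Spec.map m).isClosedEmbedding.isClosed_range
  let C := (pullback.diagonal f).coborderRange
  have hC : Set.range J ⊆ Set.range C.ι := by
    rw [Scheme.Opens.range_ι]
    rintro _ ⟨r, rfl⟩ ⟨h1, h2⟩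
    obtain ⟨y, rfl⟩ := hclosed.closure_eq.le
      (closure_mono hpre (J.isOpenEmbedding.isOpenMap.preimage_closure_subset_closure_preimage h1))
    exact h2 ⟨hU.fromSpec y, by rw [← Scheme.Hom.comp_apply, ← hJΔ]; rfl⟩
  let j : Spec R ⟶ (C : Scheme.{u}) := IsOpenImmersion.lift C.ι J hC
  have hj : j ≫ C.ι = J := IsOpenImmersion.lift_fac _ _ _
  haveI : IsOpenImmersion (j ≫ C.ι) := by rw [hj]; infer_instance
  haveI : IsOpenImmersion j := IsOpenImmersion.of_comp j C.ι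
  let c := PrinPart.diagCl f
  have hc : c ≫ C.ι = pullback.diagonal f := Scheme.Hom.liftCoborder_ι _
  have hjc : Spec.map m ≫ j = hU.fromSpec ≫ c := by
    rw [← cancel_mono C.ι, Category.assoc, Category.assoc, hj, hc]; exact hJΔ
  let O : C.toScheme.Opens := j ''ᵁ ⊤
  have hO : IsAffineOpen O := (isAffineOpen_top _).image_of_isOpenImmersion j
  have eO : ⊤ ≤ j ⁻¹ᵁ O := (j.preimage_image_eq ⊤).ge
  let σ : Γ(C.toScheme, O) ⟶ R := j.appLE O ⊤ eO ≫ (Scheme.ΓSpecIso R).hom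
  haveI : IsIso (j.appLE O ⊤ eO) := by
    rw [← Scheme.Hom.appIso_hom']
    infer_instance
  have hσ : Function.Bijective σ := ConcreteCategory.bijective_of_isIso σ
  have hcO : U = c ⁻¹ᵁ O := by
    ext x
    constructor
    · intro hx
      obtain ⟨y, rfl⟩ : x ∈ Set.range hU.fromSpec := by rw [hU.range_fromSpec]; exact hx
      refine ⟨Spec.map m y, trivial, ?_⟩
      show j (Spec.map m y) = c (hU.fromSpec y)
      rw [← Scheme.Hom.comp_apply, hjc]
      rfl
    · rintro ⟨r, -, hr⟩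
      refine hmem x r ?_
      rw [← hc, ← hj, Scheme.Hom.comp_apply, Scheme.Hom.comp_apply]
      exact congrArg C.ι hr.symm
  have hσc : c.appLE O U hcO.le = σ ≫ m := by
    have hk : ∀ (g g' : Spec Γ(X, U) ⟶ (C : Scheme.{u})) (_ : g = g') e₁ e₂,
        g.appLE O ⊤ e₁ = g'.appLE O ⊤ e₂ := by rintro g g' rfl e₁ e₂; rfl
    have h1 : hU.fromSpec.appLE U ⊤ hU.fromSpec_preimage_self.ge ≫ (Scheme.ΓSpecIso Γ(X, U)).hom = 𝟙 _ := by
      have := SpecMap_fromSpec_appLE hU (𝟙 _) (by rw [Spec.map_id, Category.id_comp]; exact hU.fromSpec_preimage_self.ge)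
      simpa using this
    calc c.appLE O U hcO.le
        = c.appLE O U hcO.le ≫ hU.fromSpec.appLE U ⊤ hU.fromSpec_preimage_self.ge ≫
            (Scheme.ΓSpecIso Γ(X, U)).hom := by rw [h1, Category.comp_id]
      _ = (hU.fromSpec ≫ c).appLE O ⊤ _ ≫ (Scheme.ΓSpecIso Γ(X, U)).hom := by
          rw [← Category.assoc, Scheme.Hom.appLE_comp_appLE]
      _ = (Spec.map m ≫ j).appLE O ⊤ (fun y hy => eO (trivial : Spec.map m y ∈ (⊤ : (Spec R).Opens))) ≫
            (Scheme.ΓSpecIso Γ(X, U)).hom := by rw [hk _ _ hjc.symm]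
      _ = σ ≫ m := by
          rw [← Scheme.Hom.appLE_comp_appLE _ _ O ⊤ ⊤ eO le_top, show (Spec.map m).appLE ⊤ ⊤ le_top = (Spec.map m).appTop from (Scheme.Hom.app_eq_appLE (Spec.map m)).symm,
            Category.assoc,
            Scheme.ΓSpecIso_naturality]
          rfl
  let ν := PrinPart.infNbhdι c n
  have hνO : PrinPart.pr1 f n ⁻¹ᵁ U = ν ⁻¹ᵁ O := by
    ext z
    obtain ⟨x, rfl⟩ := PrinPart.toInfNbhd_surjective c n z
    change PrinPart.pr1 f n (PrinPart.toNbhd f n x) ∈ U ↔ ν (PrinPart.toInfNbhd c n x) ∈ O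
    rw [← Scheme.Hom.comp_apply, ← Scheme.Hom.comp_apply, PrinPart.toNbhd_pr1, PrinPart.toInfNbhd_ι, hcO]
    rfl
  let σe : Γ(C.toScheme, O) ≃+* R := RingEquiv.ofBijective σ.hom hσ
  let θ : R →+* Γ(PrinPart.nbhd f n, PrinPart.pr1 f n ⁻¹ᵁ U) :=
    (ν.appLE O _ hνO.le).hom.comp σe.symm.toRingHom
  let T : C.toScheme.affineOpens := ⟨O, hO⟩
  refine ⟨θ, ?_, ?_, ?_⟩
  · exact (appLE_surjective ν hνO ((c.ker ^ (n + 1)).subschemeι_app_surjective T)).comp σe.symm.surjective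
  · have hmap : (c.ker.ideal T).map σe.toRingHom = KaehlerDifferential.ideal Γ(S, V) Γ(X, U) := by
      ext z
      obtain ⟨s, rfl⟩ := σe.surjective z
      refine (Ideal.apply_mem_of_equiv_iff (f := σe)).trans ?_
      rw [Scheme.Hom.ker_apply, RingHom.mem_ker, ← appLE_eq_zero_iff c hcO s, hσc]
      exact (RingHom.mem_ker).symm
    ext z
    obtain ⟨r, rfl⟩ := σe.surjective z
    rw [RingHom.mem_ker]
    change ν.appLE O _ hνO.le (σe.symm (σe r)) = 0 ↔ _
    rw [σe.symm_apply_apply, appLE_eq_zero_iff ν hνO, ← hmap, ← Ideal.map_pow]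
    refine Iff.trans ?_ (Ideal.apply_mem_of_equiv_iff (f := σe)).symm
    rw [show (c.ker.ideal T) ^ (n + 1) = (c.ker ^ (n + 1)).ideal T by
      rw [Scheme.IdealSheafData.ideal_pow, Pi.pow_apply], ← (c.ker ^ (n + 1)).ker_subschemeι_app T, RingHom.mem_ker]
    rfl
  · intro a b
    have k : ∀ (pp : pullback f f ⟶ X) (ii : Γ(X, U) ⟶ R) (qq : PrinPart.nbhd f n ⟶ X)
        (_ : J ≫ pp = Spec.map ii ≫ hU.fromSpec) (_ : PrinPart.nbhdι f n ≫ pp = qq)
        (eO' : O ≤ (C.ι ≫ pp) ⁻¹ᵁ U) (eq' : PrinPart.pr1 f n ⁻¹ᵁ U ≤ qq ⁻¹ᵁ U) (a : Γ(X, U)),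
        θ (ii a) = qq.appLE U _ eq' a := by
      intro pp ii qq hpp hqq eO' eq' a
      have hs : σ ((C.ι ≫ pp).appLE U O eO' a) = ii a := by
        have hk : ∀ (g g' : Spec R ⟶ X) (_ : g = g') e₁ e₂, g.appLE U ⊤ e₁ = g'.appLE U ⊤ e₂ := by
          rintro g g' rfl e₁ e₂; rfl
        have hh : (C.ι ≫ pp).appLE U O eO' ≫ σ = ii := by
          simp only [σ]
          rw [← Category.assoc, Scheme.Hom.appLE_comp_appLE,
            hk _ _ (by rw [← Category.assoc, hj, hpp] : j ≫ C.ι ≫ pp = Spec.map ii ≫ hU.fromSpec) _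
              (fun y _ => by
                change hU.fromSpec (Spec.map ii y) ∈ U
                rw [← SetLike.mem_coe, ← hU.range_fromSpec]; exact ⟨_, rfl⟩),
            SpecMap_fromSpec_appLE hU ii]
        exact congr($hh a)
      rw [← hs]
      change ν.appLE O _ hνO.le (σe.symm (σe _)) = _
      rw [σe.symm_apply_apply]
      have hk : ∀ (g g' : PrinPart.nbhd f n ⟶ X) (_ : g = g') e₁ e₂,
          g.appLE U (PrinPart.pr1 f n ⁻¹ᵁ U) e₁ a = g'.appLE U (PrinPart.pr1 f n ⁻¹ᵁ U) e₂ a := by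
        rintro g g' rfl e₁ e₂; rfl
      rw [← CommRingCat.comp_apply, Scheme.Hom.appLE_comp_appLE]
      exact hk _ _ (by rw [← hqq, PrinPart.nbhdι, Category.assoc]) _ _
    have eOp : ∀ (pp : pullback f f ⟶ X) (ii : Γ(X, U) ⟶ R), J ≫ pp = Spec.map ii ≫ hU.fromSpec →
        O ≤ (C.ι ≫ pp) ⁻¹ᵁ U := by
      rintro pp ii hpp _ ⟨r, -, rfl⟩
      change (C.ι ≫ pp) (j r) ∈ U
      rw [← Scheme.Hom.comp_apply, ← Category.assoc, hj, hpp, ← SetLike.mem_coe, ← hU.range_fromSpec]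
      exact ⟨_, rfl⟩
    have hab : (a ⊗ₜ[Γ(S, V)] b : R) = i1 a * i2 b := by
      show a ⊗ₜ[Γ(S, V)] b = (a ⊗ₜ[Γ(S, V)] (1 : Γ(X, U))) * ((1 : Γ(X, U)) ⊗ₜ[Γ(S, V)] b)
      rw [Algebra.TensorProduct.tmul_mul_tmul, _root_.mul_one, _root_.one_mul]
    rw [hab, map_mul, k _ i1 (PrinPart.pr1 f n) hJ1 rfl (eOp _ _ hJ1) le_rfl,
      k _ i2 (PrinPart.pr2 f n) hJ2 rfl (eOp _ _ hJ2) (PrinPart.preimage_pr1 f n U).le,
      ← Scheme.Hom.app_eq_appLE]

end Groth.Agent.PrinBC
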