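import Groth.Agent.PrinBC.Algebra
import Groth.Agent.PrinBC.Theta
import Groth.Agent.S5959
import Groth.Agent.DerPerf.Local
import Groth.Agent.QC.Closure
import Groth.Agent.OmegaLib.Coords
import Groth.Agent.ModDesc.Func
import Groth.Agent.ModDesc.BaseChange
import Groth.Agent.PrinSheaf.Gen

/-!
# Principal parts commute with base change
-/

set_option autoImplicit false
set_option backward.isDefEq.respectTransparency false
set_option backward.isDefEq.respectTransparency.types false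
set_option linter.style.haveILetI false

universe u

open CategoryTheory CategoryTheory.Limits AlgebraicGeometry TopologicalSpace Opposite TensorProduct

noncomputable section

namespace Groth.Agent.PrinBC

open Groth.Agent.QC Groth.Agent.ModDesc

theorem pullUnitIso_pullSect {X Y : Scheme.{u}} (g : X ⟶ Y) (U : Y.Opens) (s : Γ(Y, U)) :
    (DerPerf.pullUnitIso g).hom.app (g ⁻¹ᵁ U)
      (OmegaSh.pullSect g (Coh.structureModule Y) U (OmegaSh.strSect Y U s)) = g.app U s := by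
  let adj := Scheme.Modules.pullbackPushforwardAdjunction g
  have h : adj.homEquiv (Coh.structureModule Y) (Coh.structureModule X) (DerPerf.pullUnitIso g).hom =
      SheafOfModules.unitToPushforwardObjUnit g.toRingCatSheafHom := Equiv.apply_symm_apply _ _
  rw [adj.homEquiv_unit] at h
  exact congrArg (fun t : Coh.structureModule Y ⟶ (Scheme.Modules.pushforward g).obj
    (Coh.structureModule X) ↦ t.app U s) h

/-- Sections of principal parts are functions on the thickened diagonal. -/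
theorem exists_secEquiv {X S : Scheme.{u}} (f : X ⟶ S) (n : ℕ) (W : X.Opens) :
    ∃ E : Γ(PrinPart.P f n, W) ≃+ Γ(PrinPart.nbhd f n, PrinPart.pr1 f n ⁻¹ᵁ W),
      (∀ (a : Γ(X, W)) (m : Γ(PrinPart.P f n, W)), E (a • m) = (PrinPart.pr1 f n).app W a * E m) ∧
      ∀ b : Γ(X, W), E (PrinPart.dn f n W b) =
        (PrinPart.pr2 f n).appLE W _ (PrinPart.preimage_pr1 f n W).le b := by
  let p := PrinPart.pr1 f n
  let q := PrinPart.pr2 f n
  let M := (Scheme.Modules.pullback q).obj (Coh.structureModule X)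
  let a := (DerPerf.pullUnitIso q).hom
  haveI : IsIso (a.app (p ⁻¹ᵁ W)) := inferInstance
  let E : Γ(M, p ⁻¹ᵁ W) ≃+ Γ(PrinPart.nbhd f n, p ⁻¹ᵁ W) :=
    AddEquiv.ofBijective (a.app (p ⁻¹ᵁ W)).hom (ConcreteCategory.bijective_of_isIso (a.app (p ⁻¹ᵁ W)))
  refine ⟨E, fun r m => ?_, fun b => ?_⟩
  · change a.app (p ⁻¹ᵁ W) (p.app W r • (show Γ(M, p ⁻¹ᵁ W) from m)) = _
    rw [Scheme.Modules.Hom.app_smul]
    rfl
  · change a.app (p ⁻¹ᵁ W) (res M (PrinPart.preimage_pr1 f n W).le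
      (OmegaSh.pullSect q (Coh.structureModule X) W (OmegaSh.strSect X W b))) = _
    refine (QC.app_res a _ _).symm.trans ?_
    rw [pullUnitIso_pullSect]
    rfl

set_option maxHeartbeats 1600000 in
/-- The canonical map of principal parts of a cartesian square is an isomorphism. -/
theorem isIso_pMap {X S X' S' : Scheme.{u}} {f : X ⟶ S} {g : S' ⟶ S} {g' : X' ⟶ X} {f' : X' ⟶ S'}
    (hsq : IsPullback g' f' f g) (n : ℕ) {φ : (Scheme.Modules.pullback g').obj (PrinPart.P f n) ⟶ PrinPart.P f' n}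
    (hφ : PrinPart.IsPMap f f' g' n φ) : IsIso φ := by
  have hex : ∀ x' : X', ∃ (V : S.Opens) (U : X.Opens) (V' : S'.Opens), IsAffineOpen V ∧ IsAffineOpen U ∧
      IsAffineOpen V' ∧ U ≤ f ⁻¹ᵁ V ∧ V' ≤ g ⁻¹ᵁ V ∧ x' ∈ g' ⁻¹ᵁ U ⊓ f' ⁻¹ᵁ V' := by
    intro x'
    obtain ⟨V, hV, U, hU, e, hx⟩ : ∃ (V : S.Opens) (_ : IsAffineOpen V) (U : X.Opens) (_ : IsAffineOpen U),
      U ≤ f ⁻¹ᵁ V ∧ g' x' ∈ U := by
      obtain ⟨V, hV, U, hU, e, hx⟩ := exists_affine_pair f (g' x')
      exact ⟨V, hV, U, hU, e, hx⟩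
    have hV'' : f' x' ∈ g ⁻¹ᵁ V := by
      show (f' ≫ g) x' ∈ V
      rw [← hsq.w]
      exact e hx
    obtain ⟨_, ⟨(V' : S'.Opens), hV', rfl⟩, hxV', hV'le⟩ := S'.isBasis_affineOpens.exists_subset_of_mem_open
      (show f' x' ∈ ((g ⁻¹ᵁ V : S'.Opens) : Set S') from hV'') (g ⁻¹ᵁ V).2
    exact ⟨V, U, V', hV, hU, hV', e, hV'le, hx, hxV'⟩
  choose V U V' hV hU hV' e eg hmem using hex
  have haff : ∀ x', IsAffineOpen (g' ⁻¹ᵁ U x' ⊓ f' ⁻¹ᵁ V' x') := fun x' => by
    haveI : IsAffine (V x').toScheme := hV x'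
    haveI : IsAffine (U x').toScheme := hU x'
    haveI : IsAffine (V' x').toScheme := hV' x'
    exact .of_isIso (Scheme.Hom.isPullback_resLE hsq (eg x') (e x') rfl).isoPullback.hom
  have hq : Coh.IsQCoh (PrinPart.P f n) := S5959.result f n _ (QC.isQCoh_unit X)
  have hq' : Coh.IsQCoh (PrinPart.P f' n) := S5959.result f' n _ (QC.isQCoh_unit X')
  refine isIso_of_affine_cover (isQCoh_pullback _ hq) hq' φ
    (fun x' => g' ⁻¹ᵁ U x' ⊓ f' ⁻¹ᵁ V' x') haff (fun x' => ⟨x', hmem x'⟩) fun x' => ?_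
  set U' := g' ⁻¹ᵁ U x' ⊓ f' ⁻¹ᵁ V' x'
  have eh : U' ≤ g' ⁻¹ᵁ U x' := inf_le_left
  have ef : U' ≤ f' ⁻¹ᵁ V' x' := inf_le_right
  have hsection := isIso_pushoutSection_of_isAffineOpen hsq (eg x') (e x') rfl (hV x') (hV' x') (hU x')
  have hpo := (isIso_pushoutSection_iff hsq (eg x') (e x') rfl).mp hsection
  have w : ∀ r, g'.appLE (U x') _ eh (f.appLE (V x') (U x') (e x') r) =
      f'.appLE (V' x') _ ef (g.appLE (V x') (V' x') (eg x') r) := fun r =>
    ConcreteCategory.congr_hom hpo.w r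
  obtain ⟨E, hE1, hE2⟩ := exists_secEquiv f n (U x')
  obtain ⟨E', hE1', hE2'⟩ := exists_secEquiv f' n U'
  obtain ⟨θ, hθs, hθk, hθ⟩ := exists_theta_eq f n (hU x') (hV x') (e x')
  obtain ⟨θ', hθs', hθk', hθ'⟩ := exists_theta_eq f' n (haff x') (hV' x') ef
  obtain ⟨Φ, hΦ⟩ := exists_bijective_liftBaseChange g' (PrinPart.P f n) (hH := hq) (hU x') (haff x') eh
  letI : Algebra Γ(S, V x') Γ(X, U x') := (f.appLE (V x') (U x') (e x')).hom.toAlgebra
  letI : Algebra Γ(S', V' x') Γ(X', U') := (f'.appLE (V' x') _ ef).hom.toAlgebra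
  letI : Algebra Γ(X, U x') Γ(X', U') := (g'.appLE (U x') _ eh).hom.toAlgebra
  letI : Algebra Γ(S, V x') Γ(S', V' x') := (g.appLE (V x') (V' x') (eg x')).hom.toAlgebra
  letI : Algebra Γ(S, V x') Γ(X', U') :=
    ((f'.appLE (V' x') _ ef).hom.comp (g.appLE (V x') (V' x') (eg x')).hom).toAlgebra
  haveI : IsScalarTower Γ(S, V x') Γ(S', V' x') Γ(X', U') := IsScalarTower.of_algebraMap_eq' rfl
  haveI : IsScalarTower Γ(S, V x') Γ(X, U x') Γ(X', U') :=
    IsScalarTower.of_algebraMap_eq fun r => (w r).symm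
  haveI : Algebra.IsPushout Γ(S, V x') Γ(S', V' x') Γ(X, U x') Γ(X', U') :=
    CommRingCat.isPushout_iff_isPushout.mp hpo.flip
  let κ : Γ(X', U') ⊗[Γ(X, U x')] Γ(PrinPart.P f n, U x') →+
      Γ(PrinPart.nbhd f' n, PrinPart.pr1 f' n ⁻¹ᵁ U') :=
    (E'.toAddMonoidHom.comp (φ.app U').hom).comp Φ.toAddEquiv.toAddMonoidHom
  have hq1 : ∀ (W : X.Opens) (a : Γ(X, W)), (PrinPart.pr1 f n).app W a * (PrinPart.pr2 f n).appLE W _
      (PrinPart.preimage_pr1 f n W).le 1 = (PrinPart.pr1 f n).app W a := fun W a => by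
    rw [map_one, _root_.mul_one]
  have hbij : Function.Bijective κ := by
    refine bijective_principalParts n θ hθs hθk θ' hθs' hθk' E (fun a m => ?_) κ (fun b' a b m hm => ?_)
    · rw [hE1, hθ, hq1]
    · have hm' : m = a • PrinPart.dn f n (U x') b := E.injective (by rw [hm, hθ, hE1, hE2])
      subst hm'
      show E' (φ.app U' (Φ (b' ⊗ₜ (a • PrinPart.dn f n (U x') b)))) = _
      rw [← TensorProduct.smul_tmul, Algebra.smul_def, mul_comm,
        show (b' * algebraMap Γ(X, U x') Γ(X', U') a) ⊗ₜ[Γ(X, U x')] PrinPart.dn f n (U x') b =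
          (b' * algebraMap Γ(X, U x') Γ(X', U') a) • ((1 : Γ(X', U')) ⊗ₜ[Γ(X, U x')] PrinPart.dn f n (U x') b) by
          rw [TensorProduct.smul_tmul', smul_eq_mul, _root_.mul_one],
        map_smul, hΦ, Scheme.Modules.Hom.app_smul, hE1', hθ']
      congr 1
      rw [← hE2']
      congr 1
      show φ.app U' (res _ eh (OmegaSh.pullSect g' (PrinPart.P f n) (U x') (PrinPart.dn f n (U x') b))) = _
      refine (QC.app_res φ eh _).symm.trans ?_
      rw [hφ (U x') b]
      exact (PrinPart.dP_map f' n (Coh.structureModule X') eh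
        (OmegaSh.strSect X' (g' ⁻¹ᵁ U x') (g'.app (U x') b))).symm
  have hfact : (φ.app U' : _ → _) = fun m => E'.symm (κ (Φ.symm m)) := funext fun m => by
    show φ.app U' m = E'.symm (E' (φ.app U' (Φ (Φ.symm m))))
    rw [E'.symm_apply_apply, Φ.apply_symm_apply]
  show Function.Bijective (φ.app U')
  rw [hfact]
  exact E'.symm.bijective.comp (hbij.comp Φ.symm.bijective)

end Groth.Agent.PrinBC
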